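import Cfsg.Agent.Lib.Helper9.TCData.X1685.Main

set_option autoImplicit false
set_option maxRecDepth 1000000

namespace Cfsg.Agent.Helper9.TCData.X1685
open Cfsg.Agent.Helper9.TC2

theorem e0_8 : allRange 19264 747 (fun u => chkE tab 0 u) = true := by decide +kernel

theorem e1_0 : allRange 0 2056 (fun u => chkE tab 1 u) = true := by decide +kernel

theorem e1_1 : allRange 2056 2092 (fun u => chkE tab 1 u) = true := by decide +kernel

theorem e1_2 : allRange 4148 2149 (fun u => chkE tab 1 u) = true := by decide +kernel

theorem e1_3 : allRange 6297 2989 (fun u => chkE tab 1 u) = true := by decide +kernel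

theorem e1_4 : allRange 9286 2601 (fun u => chkE tab 1 u) = true := by decide +kernel

theorem e1_5 : allRange 11887 2392 (fun u => chkE tab 1 u) = true := by decide +kernel

theorem e1_6 : allRange 14279 2428 (fun u => chkE tab 1 u) = true := by decide +kernel


end Cfsg.Agent.Helper9.TCData.X1685
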