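import Cfsg.Agent.Lib.Helper9.TCData.X1685.Main

set_option autoImplicit false
set_option maxRecDepth 1000000

namespace Cfsg.Agent.Helper9.TCData.X1685
open Cfsg.Agent.Helper9.TC2

theorem f_24 : allRange 6624 276 (fun u => chkFin tab u) = true := by decide +kernel

theorem f_25 : allRange 6900 276 (fun u => chkFin tab u) = true := by decide +kernel

theorem f_26 : allRange 7176 276 (fun u => chkFin tab u) = true := by decide +kernel

theorem f_27 : allRange 7452 276 (fun u => chkFin tab u) = true := by decide +kernel

theorem f_28 : allRange 7728 276 (fun u => chkFin tab u) = true := by decide +kernel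

theorem f_29 : allRange 8004 276 (fun u => chkFin tab u) = true := by decide +kernel

theorem f_30 : allRange 8280 276 (fun u => chkFin tab u) = true := by decide +kernel

theorem f_31 : allRange 8556 276 (fun u => chkFin tab u) = true := by decide +kernel


end Cfsg.Agent.Helper9.TCData.X1685
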