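import Cfsg.Agent.Lib.Helper9.TCData.X1685.Main

set_option autoImplicit false
set_option maxRecDepth 1000000

namespace Cfsg.Agent.Helper9.TCData.X1685
open Cfsg.Agent.Helper9.TC2

theorem m2_28 : allRange 1008 36 (fun u => chkFix tab mwords u) = true := by decide +kernel

theorem m2_29 : allRange 1044 36 (fun u => chkFix tab mwords u) = true := by decide +kernel

theorem m2_30 : allRange 1080 36 (fun u => chkFix tab mwords u) = true := by decide +kernel

theorem m2_31 : allRange 1116 36 (fun u => chkFix tab mwords u) = true := by decide +kernel

theorem m2_32 : allRange 1152 36 (fun u => chkFix tab mwords u) = true := by decide +kernel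

theorem m2_33 : allRange 1188 36 (fun u => chkFix tab mwords u) = true := by decide +kernel

theorem m2_34 : allRange 1224 36 (fun u => chkFix tab mwords u) = true := by decide +kernel

theorem m2_35 : allRange 1260 36 (fun u => chkFix tab mwords u) = true := by decide +kernel


end Cfsg.Agent.Helper9.TCData.X1685
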