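import Cfsg.Agent.Lib.Helper9.TCData.X1685.Main

set_option autoImplicit false
set_option maxRecDepth 1000000

namespace Cfsg.Agent.Helper9.TCData.X1685
open Cfsg.Agent.Helper9.TC2

theorem m2_36 : allRange 1296 36 (fun u => chkFix tab mwords u) = true := by decide +kernel

theorem m2_37 : allRange 1332 36 (fun u => chkFix tab mwords u) = true := by decide +kernel

theorem m2_38 : allRange 1368 36 (fun u => chkFix tab mwords u) = true := by decide +kernel

theorem m2_39 : allRange 1404 36 (fun u => chkFix tab mwords u) = true := by decide +kernel

theorem m2_40 : allRange 1440 36 (fun u => chkFix tab mwords u) = true := by decide +kernel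

theorem m2_41 : allRange 1476 36 (fun u => chkFix tab mwords u) = true := by decide +kernel

theorem m2_42 : allRange 1512 36 (fun u => chkFix tab mwords u) = true := by decide +kernel

theorem m2_43 : allRange 1548 36 (fun u => chkFix tab mwords u) = true := by decide +kernel


end Cfsg.Agent.Helper9.TCData.X1685
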