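import Cfsg.Agent.Lib.Helper9.TCData.X1685.Main

set_option autoImplicit false
set_option maxRecDepth 1000000

namespace Cfsg.Agent.Helper9.TCData.X1685
open Cfsg.Agent.Helper9.TC2

theorem m2_60 : allRange 2160 36 (fun u => chkFix tab mwords u) = true := by decide +kernel

theorem m2_61 : allRange 2196 36 (fun u => chkFix tab mwords u) = true := by decide +kernel

theorem m2_62 : allRange 2232 36 (fun u => chkFix tab mwords u) = true := by decide +kernel

theorem m2_63 : allRange 2268 36 (fun u => chkFix tab mwords u) = true := by decide +kernel

theorem m2_64 : allRange 2304 36 (fun u => chkFix tab mwords u) = true := by decide +kernel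

theorem m2_65 : allRange 2340 36 (fun u => chkFix tab mwords u) = true := by decide +kernel

theorem m2_66 : allRange 2376 36 (fun u => chkFix tab mwords u) = true := by decide +kernel

theorem m2_67 : allRange 2412 36 (fun u => chkFix tab mwords u) = true := by decide +kernel


end Cfsg.Agent.Helper9.TCData.X1685
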