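import Cfsg.Agent.Lib.Helper9.TCData.X1685.Main

set_option autoImplicit false
set_option maxRecDepth 1000000

namespace Cfsg.Agent.Helper9.TCData.X1685
open Cfsg.Agent.Helper9.TC2

theorem e2_6 : allRange 14676 2699 (fun u => chkE tab 2 u) = true := by decide +kernel

theorem e2_7 : allRange 17375 2566 (fun u => chkE tab 2 u) = true := by decide +kernel

theorem e2_8 : allRange 19941 70 (fun u => chkE tab 2 u) = true := by decide +kernel

theorem e3_0 : allRange 0 2158 (fun u => chkE tab 3 u) = true := by decide +kernel

theorem e3_1 : allRange 2158 2344 (fun u => chkE tab 3 u) = true := by decide +kernel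

theorem e3_2 : allRange 4502 2362 (fun u => chkE tab 3 u) = true := by decide +kernel

theorem e3_3 : allRange 6864 3449 (fun u => chkE tab 3 u) = true := by decide +kernel

theorem e3_4 : allRange 10313 2422 (fun u => chkE tab 3 u) = true := by decide +kernel


end Cfsg.Agent.Helper9.TCData.X1685
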