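import Cfsg.Agent.Lib.Helper9.TCData.X1685.Main

set_option autoImplicit false
set_option maxRecDepth 1000000

namespace Cfsg.Agent.Helper9.TCData.X1685
open Cfsg.Agent.Helper9.TC2

theorem m2_76 : allRange 2736 36 (fun u => chkFix tab mwords u) = true := by decide +kernel

theorem m2_77 : allRange 2772 36 (fun u => chkFix tab mwords u) = true := by decide +kernel

theorem m2_78 : allRange 2808 36 (fun u => chkFix tab mwords u) = true := by decide +kernel

theorem m2_79 : allRange 2844 36 (fun u => chkFix tab mwords u) = true := by decide +kernel

theorem m2_80 : allRange 2880 36 (fun u => chkFix tab mwords u) = true := by decide +kernel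

theorem m2_81 : allRange 2916 36 (fun u => chkFix tab mwords u) = true := by decide +kernel

theorem m2_82 : allRange 2952 36 (fun u => chkFix tab mwords u) = true := by decide +kernel

theorem m2_83 : allRange 2988 36 (fun u => chkFix tab mwords u) = true := by decide +kernel


end Cfsg.Agent.Helper9.TCData.X1685
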