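import Cfsg.Agent.Lib.Helper9.TCData.X1685.Main

set_option autoImplicit false
set_option maxRecDepth 1000000

namespace Cfsg.Agent.Helper9.TCData.X1685
open Cfsg.Agent.Helper9.TC2

theorem m2_92 : allRange 3312 36 (fun u => chkFix tab mwords u) = true := by decide +kernel

theorem m2_93 : allRange 3348 36 (fun u => chkFix tab mwords u) = true := by decide +kernel

theorem m2_94 : allRange 3384 36 (fun u => chkFix tab mwords u) = true := by decide +kernel

theorem m2_95 : allRange 3420 36 (fun u => chkFix tab mwords u) = true := by decide +kernel

theorem m2_96 : allRange 3456 36 (fun u => chkFix tab mwords u) = true := by decide +kernel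

theorem m2_97 : allRange 3492 36 (fun u => chkFix tab mwords u) = true := by decide +kernel

theorem m2_98 : allRange 3528 36 (fun u => chkFix tab mwords u) = true := by decide +kernel

theorem m2_99 : allRange 3564 36 (fun u => chkFix tab mwords u) = true := by decide +kernel


end Cfsg.Agent.Helper9.TCData.X1685
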