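import Cfsg.Agent.Lib.Helper9.TCData.X1685.Main

set_option autoImplicit false
set_option maxRecDepth 1000000

namespace Cfsg.Agent.Helper9.TCData.X1685
open Cfsg.Agent.Helper9.TC2

theorem m2_124 : allRange 4464 36 (fun u => chkFix tab mwords u) = true := by decide +kernel

theorem m2_125 : allRange 4500 36 (fun u => chkFix tab mwords u) = true := by decide +kernel

theorem m2_126 : allRange 4536 36 (fun u => chkFix tab mwords u) = true := by decide +kernel

theorem m2_127 : allRange 4572 36 (fun u => chkFix tab mwords u) = true := by decide +kernel

theorem m2_128 : allRange 4608 36 (fun u => chkFix tab mwords u) = true := by decide +kernel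

theorem m2_129 : allRange 4644 36 (fun u => chkFix tab mwords u) = true := by decide +kernel

theorem m2_130 : allRange 4680 36 (fun u => chkFix tab mwords u) = true := by decide +kernel

theorem m2_131 : allRange 4716 36 (fun u => chkFix tab mwords u) = true := by decide +kernel


end Cfsg.Agent.Helper9.TCData.X1685
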