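import Cfsg.Agent.Lib.Helper9.TCData.X1685.Main

set_option autoImplicit false
set_option maxRecDepth 1000000

namespace Cfsg.Agent.Helper9.TCData.X1685
open Cfsg.Agent.Helper9.TC2

theorem m2_132 : allRange 4752 36 (fun u => chkFix tab mwords u) = true := by decide +kernel

theorem m2_133 : allRange 4788 36 (fun u => chkFix tab mwords u) = true := by decide +kernel

theorem m2_134 : allRange 4824 36 (fun u => chkFix tab mwords u) = true := by decide +kernel

theorem m2_135 : allRange 4860 36 (fun u => chkFix tab mwords u) = true := by decide +kernel

theorem m2_136 : allRange 4896 36 (fun u => chkFix tab mwords u) = true := by decide +kernel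

theorem m2_137 : allRange 4932 36 (fun u => chkFix tab mwords u) = true := by decide +kernel

theorem m2_138 : allRange 4968 36 (fun u => chkFix tab mwords u) = true := by decide +kernel

theorem m2_139 : allRange 5004 36 (fun u => chkFix tab mwords u) = true := by decide +kernel


end Cfsg.Agent.Helper9.TCData.X1685
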