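import Cfsg.Agent.Lib.Helper9.TCData.X1685.Main

set_option autoImplicit false
set_option maxRecDepth 1000000

namespace Cfsg.Agent.Helper9.TCData.X1685
open Cfsg.Agent.Helper9.TC2

theorem e3_5 : allRange 12735 2830 (fun u => chkE tab 3 u) = true := by decide +kernel

theorem e3_6 : allRange 15565 2662 (fun u => chkE tab 3 u) = true := by decide +kernel

theorem e3_7 : allRange 18227 1784 (fun u => chkE tab 3 u) = true := by decide +kernel

theorem e4_0 : allRange 0 2216 (fun u => chkE tab 4 u) = true := by decide +kernel

theorem e4_1 : allRange 2216 2243 (fun u => chkE tab 4 u) = true := by decide +kernel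

theorem e4_2 : allRange 4459 2357 (fun u => chkE tab 4 u) = true := by decide +kernel

theorem e4_3 : allRange 6816 3457 (fun u => chkE tab 4 u) = true := by decide +kernel

theorem e4_4 : allRange 10273 2292 (fun u => chkE tab 4 u) = true := by decide +kernel


end Cfsg.Agent.Helper9.TCData.X1685
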