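import Cfsg.Agent.Lib.Helper9.TCData.X1685.Main

set_option autoImplicit false
set_option maxRecDepth 1000000

namespace Cfsg.Agent.Helper9.TCData.X1685
open Cfsg.Agent.Helper9.TC2

theorem m2_172 : allRange 6192 36 (fun u => chkFix tab mwords u) = true := by decide +kernel

theorem m2_173 : allRange 6228 36 (fun u => chkFix tab mwords u) = true := by decide +kernel

theorem m2_174 : allRange 6264 36 (fun u => chkFix tab mwords u) = true := by decide +kernel

theorem m2_175 : allRange 6300 36 (fun u => chkFix tab mwords u) = true := by decide +kernel

theorem m2_176 : allRange 6336 36 (fun u => chkFix tab mwords u) = true := by decide +kernel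

theorem m2_177 : allRange 6372 36 (fun u => chkFix tab mwords u) = true := by decide +kernel

theorem m2_178 : allRange 6408 36 (fun u => chkFix tab mwords u) = true := by decide +kernel

theorem m2_179 : allRange 6444 36 (fun u => chkFix tab mwords u) = true := by decide +kernel


end Cfsg.Agent.Helper9.TCData.X1685
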