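import Cfsg.Agent.Lib.Helper9.TCData.X1685.Main

set_option autoImplicit false
set_option maxRecDepth 1000000

namespace Cfsg.Agent.Helper9.TCData.X1685
open Cfsg.Agent.Helper9.TC2

theorem m2_188 : allRange 6768 36 (fun u => chkFix tab mwords u) = true := by decide +kernel

theorem m2_189 : allRange 6804 36 (fun u => chkFix tab mwords u) = true := by decide +kernel

theorem m2_190 : allRange 6840 36 (fun u => chkFix tab mwords u) = true := by decide +kernel

theorem m2_191 : allRange 6876 36 (fun u => chkFix tab mwords u) = true := by decide +kernel

theorem m2_192 : allRange 6912 36 (fun u => chkFix tab mwords u) = true := by decide +kernel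

theorem m2_193 : allRange 6948 36 (fun u => chkFix tab mwords u) = true := by decide +kernel

theorem m2_194 : allRange 6984 36 (fun u => chkFix tab mwords u) = true := by decide +kernel

theorem m2_195 : allRange 7020 36 (fun u => chkFix tab mwords u) = true := by decide +kernel


end Cfsg.Agent.Helper9.TCData.X1685
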