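import Cfsg.Agent.Lib.Helper9.TCData.X1685.Main

set_option autoImplicit false
set_option maxRecDepth 1000000

namespace Cfsg.Agent.Helper9.TCData.X1685
open Cfsg.Agent.Helper9.TC2

theorem m2_212 : allRange 7632 36 (fun u => chkFix tab mwords u) = true := by decide +kernel

theorem m2_213 : allRange 7668 36 (fun u => chkFix tab mwords u) = true := by decide +kernel

theorem m2_214 : allRange 7704 36 (fun u => chkFix tab mwords u) = true := by decide +kernel

theorem m2_215 : allRange 7740 36 (fun u => chkFix tab mwords u) = true := by decide +kernel

theorem m2_216 : allRange 7776 36 (fun u => chkFix tab mwords u) = true := by decide +kernel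

theorem m2_217 : allRange 7812 36 (fun u => chkFix tab mwords u) = true := by decide +kernel

theorem m2_218 : allRange 7848 36 (fun u => chkFix tab mwords u) = true := by decide +kernel

theorem m2_219 : allRange 7884 36 (fun u => chkFix tab mwords u) = true := by decide +kernel


end Cfsg.Agent.Helper9.TCData.X1685
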