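import Cfsg.Agent.Lib.Helper9.TCData.X1685.Main

set_option autoImplicit false
set_option maxRecDepth 1000000

namespace Cfsg.Agent.Helper9.TCData.X1685
open Cfsg.Agent.Helper9.TC2

theorem m2_220 : allRange 7920 36 (fun u => chkFix tab mwords u) = true := by decide +kernel

theorem m2_221 : allRange 7956 36 (fun u => chkFix tab mwords u) = true := by decide +kernel

theorem m2_222 : allRange 7992 36 (fun u => chkFix tab mwords u) = true := by decide +kernel

theorem m2_223 : allRange 8028 36 (fun u => chkFix tab mwords u) = true := by decide +kernel

theorem m2_224 : allRange 8064 36 (fun u => chkFix tab mwords u) = true := by decide +kernel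

theorem m2_225 : allRange 8100 36 (fun u => chkFix tab mwords u) = true := by decide +kernel

theorem m2_226 : allRange 8136 36 (fun u => chkFix tab mwords u) = true := by decide +kernel

theorem m2_227 : allRange 8172 36 (fun u => chkFix tab mwords u) = true := by decide +kernel


end Cfsg.Agent.Helper9.TCData.X1685
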