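import Cfsg.Agent.Lib.Helper9.TCData.X1685.Main

set_option autoImplicit false
set_option maxRecDepth 1000000

namespace Cfsg.Agent.Helper9.TCData.X1685
open Cfsg.Agent.Helper9.TC2

theorem m2_236 : allRange 8496 36 (fun u => chkFix tab mwords u) = true := by decide +kernel

theorem m2_237 : allRange 8532 36 (fun u => chkFix tab mwords u) = true := by decide +kernel

theorem m2_238 : allRange 8568 36 (fun u => chkFix tab mwords u) = true := by decide +kernel

theorem m2_239 : allRange 8604 36 (fun u => chkFix tab mwords u) = true := by decide +kernel

theorem m2_240 : allRange 8640 36 (fun u => chkFix tab mwords u) = true := by decide +kernel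

theorem m2_241 : allRange 8676 36 (fun u => chkFix tab mwords u) = true := by decide +kernel

theorem m2_242 : allRange 8712 36 (fun u => chkFix tab mwords u) = true := by decide +kernel

theorem m2_243 : allRange 8748 36 (fun u => chkFix tab mwords u) = true := by decide +kernel


end Cfsg.Agent.Helper9.TCData.X1685
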