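import Cfsg.Agent.Lib.Helper9.TCData.X1685.Main

set_option autoImplicit false
set_option maxRecDepth 1000000

namespace Cfsg.Agent.Helper9.TCData.X1685
open Cfsg.Agent.Helper9.TC2

theorem m2_268 : allRange 9648 36 (fun u => chkFix tab mwords u) = true := by decide +kernel

theorem m2_269 : allRange 9684 36 (fun u => chkFix tab mwords u) = true := by decide +kernel

theorem m2_270 : allRange 9720 36 (fun u => chkFix tab mwords u) = true := by decide +kernel

theorem m2_271 : allRange 9756 36 (fun u => chkFix tab mwords u) = true := by decide +kernel

theorem m2_272 : allRange 9792 36 (fun u => chkFix tab mwords u) = true := by decide +kernel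

theorem m2_273 : allRange 9828 36 (fun u => chkFix tab mwords u) = true := by decide +kernel

theorem m2_274 : allRange 9864 36 (fun u => chkFix tab mwords u) = true := by decide +kernel

theorem m2_275 : allRange 9900 36 (fun u => chkFix tab mwords u) = true := by decide +kernel


end Cfsg.Agent.Helper9.TCData.X1685
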