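import Cfsg.Agent.Lib.Helper9.TCData.X1685.Main

set_option autoImplicit false
set_option maxRecDepth 1000000

namespace Cfsg.Agent.Helper9.TCData.X1685
open Cfsg.Agent.Helper9.TC2

theorem m2_284 : allRange 10224 36 (fun u => chkFix tab mwords u) = true := by decide +kernel

theorem m2_285 : allRange 10260 36 (fun u => chkFix tab mwords u) = true := by decide +kernel

theorem m2_286 : allRange 10296 36 (fun u => chkFix tab mwords u) = true := by decide +kernel

theorem m2_287 : allRange 10332 36 (fun u => chkFix tab mwords u) = true := by decide +kernel

theorem m2_288 : allRange 10368 36 (fun u => chkFix tab mwords u) = true := by decide +kernel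

theorem m2_289 : allRange 10404 36 (fun u => chkFix tab mwords u) = true := by decide +kernel

theorem m2_290 : allRange 10440 36 (fun u => chkFix tab mwords u) = true := by decide +kernel

theorem m2_291 : allRange 10476 36 (fun u => chkFix tab mwords u) = true := by decide +kernel


end Cfsg.Agent.Helper9.TCData.X1685
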