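import Cfsg.Agent.Lib.Helper9.TCData.X1685.Main

set_option autoImplicit false
set_option maxRecDepth 1000000

namespace Cfsg.Agent.Helper9.TCData.X1685
open Cfsg.Agent.Helper9.TC2

theorem m2_292 : allRange 10512 36 (fun u => chkFix tab mwords u) = true := by decide +kernel

theorem m2_293 : allRange 10548 36 (fun u => chkFix tab mwords u) = true := by decide +kernel

theorem m2_294 : allRange 10584 36 (fun u => chkFix tab mwords u) = true := by decide +kernel

theorem m2_295 : allRange 10620 36 (fun u => chkFix tab mwords u) = true := by decide +kernel

theorem m2_296 : allRange 10656 36 (fun u => chkFix tab mwords u) = true := by decide +kernel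

theorem m2_297 : allRange 10692 36 (fun u => chkFix tab mwords u) = true := by decide +kernel

theorem m2_298 : allRange 10728 36 (fun u => chkFix tab mwords u) = true := by decide +kernel

theorem m2_299 : allRange 10764 36 (fun u => chkFix tab mwords u) = true := by decide +kernel


end Cfsg.Agent.Helper9.TCData.X1685
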