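import Cfsg.Agent.Lib.Helper9.TCData.X1685.Main

set_option autoImplicit false
set_option maxRecDepth 1000000

namespace Cfsg.Agent.Helper9.TCData.X1685
open Cfsg.Agent.Helper9.TC2

theorem m2_324 : allRange 11664 36 (fun u => chkFix tab mwords u) = true := by decide +kernel

theorem m2_325 : allRange 11700 36 (fun u => chkFix tab mwords u) = true := by decide +kernel

theorem m2_326 : allRange 11736 36 (fun u => chkFix tab mwords u) = true := by decide +kernel

theorem m2_327 : allRange 11772 36 (fun u => chkFix tab mwords u) = true := by decide +kernel

theorem m2_328 : allRange 11808 36 (fun u => chkFix tab mwords u) = true := by decide +kernel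

theorem m2_329 : allRange 11844 36 (fun u => chkFix tab mwords u) = true := by decide +kernel

theorem m2_330 : allRange 11880 36 (fun u => chkFix tab mwords u) = true := by decide +kernel

theorem m2_331 : allRange 11916 36 (fun u => chkFix tab mwords u) = true := by decide +kernel


end Cfsg.Agent.Helper9.TCData.X1685
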