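import Cfsg.Agent.Lib.Helper9.TCData.X1685.Main

set_option autoImplicit false
set_option maxRecDepth 1000000

namespace Cfsg.Agent.Helper9.TCData.X1685
open Cfsg.Agent.Helper9.TC2

theorem m2_332 : allRange 11952 36 (fun u => chkFix tab mwords u) = true := by decide +kernel

theorem m2_333 : allRange 11988 36 (fun u => chkFix tab mwords u) = true := by decide +kernel

theorem m2_334 : allRange 12024 36 (fun u => chkFix tab mwords u) = true := by decide +kernel

theorem m2_335 : allRange 12060 36 (fun u => chkFix tab mwords u) = true := by decide +kernel

theorem m2_336 : allRange 12096 36 (fun u => chkFix tab mwords u) = true := by decide +kernel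

theorem m2_337 : allRange 12132 36 (fun u => chkFix tab mwords u) = true := by decide +kernel

theorem m2_338 : allRange 12168 36 (fun u => chkFix tab mwords u) = true := by decide +kernel

theorem m2_339 : allRange 12204 36 (fun u => chkFix tab mwords u) = true := by decide +kernel


end Cfsg.Agent.Helper9.TCData.X1685
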