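import Cfsg.Agent.Lib.Helper9.TCData.X1685.Main

set_option autoImplicit false
set_option maxRecDepth 1000000

namespace Cfsg.Agent.Helper9.TCData.X1685
open Cfsg.Agent.Helper9.TC2

theorem m2_340 : allRange 12240 36 (fun u => chkFix tab mwords u) = true := by decide +kernel

theorem m2_341 : allRange 12276 36 (fun u => chkFix tab mwords u) = true := by decide +kernel

theorem m2_342 : allRange 12312 36 (fun u => chkFix tab mwords u) = true := by decide +kernel

theorem m2_343 : allRange 12348 36 (fun u => chkFix tab mwords u) = true := by decide +kernel

theorem m2_344 : allRange 12384 36 (fun u => chkFix tab mwords u) = true := by decide +kernel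

theorem m2_345 : allRange 12420 36 (fun u => chkFix tab mwords u) = true := by decide +kernel

theorem m2_346 : allRange 12456 36 (fun u => chkFix tab mwords u) = true := by decide +kernel

theorem m2_347 : allRange 12492 36 (fun u => chkFix tab mwords u) = true := by decide +kernel


end Cfsg.Agent.Helper9.TCData.X1685
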