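import Cfsg.Agent.Lib.Helper9.TCData.X1685.Main

set_option autoImplicit false
set_option maxRecDepth 1000000

namespace Cfsg.Agent.Helper9.TCData.X1685
open Cfsg.Agent.Helper9.TC2

theorem m2_356 : allRange 12816 36 (fun u => chkFix tab mwords u) = true := by decide +kernel

theorem m2_357 : allRange 12852 36 (fun u => chkFix tab mwords u) = true := by decide +kernel

theorem m2_358 : allRange 12888 36 (fun u => chkFix tab mwords u) = true := by decide +kernel

theorem m2_359 : allRange 12924 36 (fun u => chkFix tab mwords u) = true := by decide +kernel

theorem m2_360 : allRange 12960 36 (fun u => chkFix tab mwords u) = true := by decide +kernel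

theorem m2_361 : allRange 12996 36 (fun u => chkFix tab mwords u) = true := by decide +kernel

theorem m2_362 : allRange 13032 36 (fun u => chkFix tab mwords u) = true := by decide +kernel

theorem m2_363 : allRange 13068 36 (fun u => chkFix tab mwords u) = true := by decide +kernel


end Cfsg.Agent.Helper9.TCData.X1685
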