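import Cfsg.Agent.Lib.Helper9.TCData.X1685.Main

set_option autoImplicit false
set_option maxRecDepth 1000000

namespace Cfsg.Agent.Helper9.TCData.X1685
open Cfsg.Agent.Helper9.TC2

theorem m2_372 : allRange 13392 36 (fun u => chkFix tab mwords u) = true := by decide +kernel

theorem m2_373 : allRange 13428 36 (fun u => chkFix tab mwords u) = true := by decide +kernel

theorem m2_374 : allRange 13464 36 (fun u => chkFix tab mwords u) = true := by decide +kernel

theorem m2_375 : allRange 13500 36 (fun u => chkFix tab mwords u) = true := by decide +kernel

theorem m2_376 : allRange 13536 36 (fun u => chkFix tab mwords u) = true := by decide +kernel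

theorem m2_377 : allRange 13572 36 (fun u => chkFix tab mwords u) = true := by decide +kernel

theorem m2_378 : allRange 13608 36 (fun u => chkFix tab mwords u) = true := by decide +kernel

theorem m2_379 : allRange 13644 36 (fun u => chkFix tab mwords u) = true := by decide +kernel


end Cfsg.Agent.Helper9.TCData.X1685
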