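import Cfsg.Agent.Lib.Helper9.TCData.X1685.Main

set_option autoImplicit false
set_option maxRecDepth 1000000

namespace Cfsg.Agent.Helper9.TCData.X1685
open Cfsg.Agent.Helper9.TC2

theorem m2_388 : allRange 13968 36 (fun u => chkFix tab mwords u) = true := by decide +kernel

theorem m2_389 : allRange 14004 36 (fun u => chkFix tab mwords u) = true := by decide +kernel

theorem m2_390 : allRange 14040 36 (fun u => chkFix tab mwords u) = true := by decide +kernel

theorem m2_391 : allRange 14076 4 (fun u => chkFix tab mwords u) = true := by decide +kernel


end Cfsg.Agent.Helper9.TCData.X1685
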