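import Cfsg.Agent.Lib.Helper9.TCData.X1685.Main

set_option autoImplicit false
set_option maxRecDepth 1000000

namespace Cfsg.Agent.Helper9.TCData.X1685
open Cfsg.Agent.Helper9.TC2

theorem e7_5 : allRange 15306 2446 (fun u => chkE tab 7 u) = true := by decide +kernel

theorem e7_6 : allRange 17752 2259 (fun u => chkE tab 7 u) = true := by decide +kernel

theorem e8_0 : allRange 0 2684 (fun u => chkE tab 8 u) = true := by decide +kernel

theorem e8_1 : allRange 2684 3797 (fun u => chkE tab 8 u) = true := by decide +kernel

theorem e8_2 : allRange 6481 4322 (fun u => chkE tab 8 u) = true := by decide +kernel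

theorem e8_3 : allRange 10803 3060 (fun u => chkE tab 8 u) = true := by decide +kernel

theorem e8_4 : allRange 13863 2624 (fun u => chkE tab 8 u) = true := by decide +kernel

theorem e8_5 : allRange 16487 2506 (fun u => chkE tab 8 u) = true := by decide +kernel


end Cfsg.Agent.Helper9.TCData.X1685
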