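import Cfsg.Agent.Lib.Helper9.TCData.X1685.S0
import Cfsg.Agent.Lib.Helper9.TCData.X1685.S1
import Cfsg.Agent.Lib.Helper9.TCData.X1685.S2
import Cfsg.Agent.Lib.Helper9.TCData.X1685.S3
import Cfsg.Agent.Lib.Helper9.TCData.X1685.S4
import Cfsg.Agent.Lib.Helper9.TCData.X1685.S5
import Cfsg.Agent.Lib.Helper9.TCData.X1685.S6
import Cfsg.Agent.Lib.Helper9.TCData.X1685.S7
import Cfsg.Agent.Lib.Helper9.TCData.X1685.S8
import Cfsg.Agent.Lib.Helper9.TCData.X1685.S9
import Cfsg.Agent.Lib.Helper9.TCData.X1685.S10
import Cfsg.Agent.Lib.Helper9.TCData.X1685.S11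
import Cfsg.Agent.Lib.Helper9.TCData.X1685.S12
import Cfsg.Agent.Lib.Helper9.TCData.X1685.S13
import Cfsg.Agent.Lib.Helper9.TCData.X1685.S14
import Cfsg.Agent.Lib.Helper9.TCData.X1685.S15
import Cfsg.Agent.Lib.Helper9.TCData.X1685.S16
import Cfsg.Agent.Lib.Helper9.TCData.X1685.S17
import Cfsg.Agent.Lib.Helper9.TCData.X1685.S18
import Cfsg.Agent.Lib.Helper9.TCData.X1685.S19
import Cfsg.Agent.Lib.Helper9.TCData.X1685.S20
import Cfsg.Agent.Lib.Helper9.TCData.X1685.S21
import Cfsg.Agent.Lib.Helper9.TCData.X1685.S22
import Cfsg.Agent.Lib.Helper9.TCData.X1685.S23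
import Cfsg.Agent.Lib.Helper9.TCData.X1685.S24
import Cfsg.Agent.Lib.Helper9.TCData.X1685.S25
import Cfsg.Agent.Lib.Helper9.TCData.X1685.S26
import Cfsg.Agent.Lib.Helper9.TCData.X1685.S27
import Cfsg.Agent.Lib.Helper9.TCData.X1685.S28
import Cfsg.Agent.Lib.Helper9.TCData.X1685.S29
import Cfsg.Agent.Lib.Helper9.TCData.X1685.S30
import Cfsg.Agent.Lib.Helper9.TCData.X1685.S31
import Cfsg.Agent.Lib.Helper9.TCData.X1685.S32
import Cfsg.Agent.Lib.Helper9.TCData.X1685.S33
import Cfsg.Agent.Lib.Helper9.TCData.X1685.S34
import Cfsg.Agent.Lib.Helper9.TCData.X1685.S35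
import Cfsg.Agent.Lib.Helper9.TCData.X1685.S36
import Cfsg.Agent.Lib.Helper9.TCData.X1685.S37
import Cfsg.Agent.Lib.Helper9.TCData.X1685.S38
import Cfsg.Agent.Lib.Helper9.TCData.X1685.S39
import Cfsg.Agent.Lib.Helper9.TCData.X1685.S40
import Cfsg.Agent.Lib.Helper9.TCData.X1685.S41
import Cfsg.Agent.Lib.Helper9.TCData.X1685.S42
import Cfsg.Agent.Lib.Helper9.TCData.X1685.S43
import Cfsg.Agent.Lib.Helper9.TCData.X1685.S44
import Cfsg.Agent.Lib.Helper9.TCData.X1685.S45
import Cfsg.Agent.Lib.Helper9.TCData.X1685.S46
import Cfsg.Agent.Lib.Helper9.TCData.X1685.S47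
import Cfsg.Agent.Lib.Helper9.TCData.X1685.S48
import Cfsg.Agent.Lib.Helper9.TCData.X1685.S49
import Cfsg.Agent.Lib.Helper9.TCData.X1685.S50
import Cfsg.Agent.Lib.Helper9.TCData.X1685.S51
import Cfsg.Agent.Lib.Helper9.TCData.X1685.S52
import Cfsg.Agent.Lib.Helper9.TCData.X1685.S53
import Cfsg.Agent.Lib.Helper9.TCData.X1685.S54
import Cfsg.Agent.Lib.Helper9.TCData.X1685.S55
import Cfsg.Agent.Lib.Helper9.TCData.X1685.S56
import Cfsg.Agent.Lib.Helper9.TCData.X1685.S57
import Cfsg.Agent.Lib.Helper9.TCData.X1685.S58
import Cfsg.Agent.Lib.Helper9.TCData.X1685.S59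
import Cfsg.Agent.Lib.Helper9.TCData.X1685.S60
import Cfsg.Agent.Lib.Helper9.TCData.X1685.S61
import Cfsg.Agent.Lib.Helper9.TCData.X1685.S62
import Cfsg.Agent.Lib.Helper9.TCData.X1685.S63
import Cfsg.Agent.Lib.Helper9.TCData.X1685.S64
import Cfsg.Agent.Lib.Helper9.TCData.X1685.S65
import Cfsg.Agent.Lib.Helper9.TCData.X1685.S66
import Cfsg.Agent.Lib.Helper9.TCData.X1685.S67
import Cfsg.Agent.Lib.Helper9.TCData.X1685.S68
import Cfsg.Agent.Lib.Helper9.TCData.X1685.S69
import Cfsg.Agent.Lib.Helper9.TCData.X1685.S70

set_option autoImplicit false
set_option maxRecDepth 1000000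

namespace Cfsg.Agent.Helper9.TCData.X1685
open Cfsg.Agent.Helper9.TC2


theorem hE0 : ∀ u < 20011, chkE tab 0 u = true := by
  have h0 : ∀ u < 0, (fun u => chkE tab 0 u) u = true := range_zero
  have h1 : ∀ u < 2035, (fun u => chkE tab 0 u) u = true := ext_range (a := 0) (len := 2035) h0 e0_0
  have h2 : ∀ u < 4111, (fun u => chkE tab 0 u) u = true := ext_range (a := 2035) (len := 2076) h1 e0_1
  have h3 : ∀ u < 6252, (fun u => chkE tab 0 u) u = true := ext_range (a := 4111) (len := 2141) h2 e0_2
  have h4 : ∀ u < 9361, (fun u => chkE tab 0 u) u = true := ext_range (a := 6252) (len := 3109) h3 e0_3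
  have h5 : ∀ u < 11822, (fun u => chkE tab 0 u) u = true := ext_range (a := 9361) (len := 2461) h4 e0_4
  have h6 : ∀ u < 14220, (fun u => chkE tab 0 u) u = true := ext_range (a := 11822) (len := 2398) h5 e0_5
  have h7 : ∀ u < 16637, (fun u => chkE tab 0 u) u = true := ext_range (a := 14220) (len := 2417) h6 e0_6
  have h8 : ∀ u < 19264, (fun u => chkE tab 0 u) u = true := ext_range (a := 16637) (len := 2627) h7 e0_7
  have h9 : ∀ u < 20011, (fun u => chkE tab 0 u) u = true := ext_range (a := 19264) (len := 747) h8 e0_8
  exact h9

theorem hE1 : ∀ u < 20011, chkE tab 1 u = true := by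
  have h0 : ∀ u < 0, (fun u => chkE tab 1 u) u = true := range_zero
  have h1 : ∀ u < 2056, (fun u => chkE tab 1 u) u = true := ext_range (a := 0) (len := 2056) h0 e1_0
  have h2 : ∀ u < 4148, (fun u => chkE tab 1 u) u = true := ext_range (a := 2056) (len := 2092) h1 e1_1
  have h3 : ∀ u < 6297, (fun u => chkE tab 1 u) u = true := ext_range (a := 4148) (len := 2149) h2 e1_2
  have h4 : ∀ u < 9286, (fun u => chkE tab 1 u) u = true := ext_range (a := 6297) (len := 2989) h3 e1_3
  have h5 : ∀ u < 11887, (fun u => chkE tab 1 u) u = true := ext_range (a := 9286) (len := 2601) h4 e1_4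
  have h6 : ∀ u < 14279, (fun u => chkE tab 1 u) u = true := ext_range (a := 11887) (len := 2392) h5 e1_5
  have h7 : ∀ u < 16707, (fun u => chkE tab 1 u) u = true := ext_range (a := 14279) (len := 2428) h6 e1_6
  have h8 : ∀ u < 19272, (fun u => chkE tab 1 u) u = true := ext_range (a := 16707) (len := 2565) h7 e1_7
  have h9 : ∀ u < 20011, (fun u => chkE tab 1 u) u = true := ext_range (a := 19272) (len := 739) h8 e1_8
  exact h9

theorem hE2 : ∀ u < 20011, chkE tab 2 u = true := by
  have h0 : ∀ u < 0, (fun u => chkE tab 2 u) u = true := range_zero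
  have h1 : ∀ u < 2071, (fun u => chkE tab 2 u) u = true := ext_range (a := 0) (len := 2071) h0 e2_0
  have h2 : ∀ u < 4215, (fun u => chkE tab 2 u) u = true := ext_range (a := 2071) (len := 2144) h1 e2_1
  have h3 : ∀ u < 6456, (fun u => chkE tab 2 u) u = true := ext_range (a := 4215) (len := 2241) h2 e2_2
  have h4 : ∀ u < 9726, (fun u => chkE tab 2 u) u = true := ext_range (a := 6456) (len := 3270) h3 e2_3
  have h5 : ∀ u < 12210, (fun u => chkE tab 2 u) u = true := ext_range (a := 9726) (len := 2484) h4 e2_4
  have h6 : ∀ u < 14676, (fun u => chkE tab 2 u) u = true := ext_range (a := 12210) (len := 2466) h5 e2_5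
  have h7 : ∀ u < 17375, (fun u => chkE tab 2 u) u = true := ext_range (a := 14676) (len := 2699) h6 e2_6
  have h8 : ∀ u < 19941, (fun u => chkE tab 2 u) u = true := ext_range (a := 17375) (len := 2566) h7 e2_7
  have h9 : ∀ u < 20011, (fun u => chkE tab 2 u) u = true := ext_range (a := 19941) (len := 70) h8 e2_8
  exact h9

theorem hE3 : ∀ u < 20011, chkE tab 3 u = true := by
  have h0 : ∀ u < 0, (fun u => chkE tab 3 u) u = true := range_zero
  have h1 : ∀ u < 2158, (fun u => chkE tab 3 u) u = true := ext_range (a := 0) (len := 2158) h0 e3_0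
  have h2 : ∀ u < 4502, (fun u => chkE tab 3 u) u = true := ext_range (a := 2158) (len := 2344) h1 e3_1
  have h3 : ∀ u < 6864, (fun u => chkE tab 3 u) u = true := ext_range (a := 4502) (len := 2362) h2 e3_2
  have h4 : ∀ u < 10313, (fun u => chkE tab 3 u) u = true := ext_range (a := 6864) (len := 3449) h3 e3_3
  have h5 : ∀ u < 12735, (fun u => chkE tab 3 u) u = true := ext_range (a := 10313) (len := 2422) h4 e3_4
  have h6 : ∀ u < 15565, (fun u => chkE tab 3 u) u = true := ext_range (a := 12735) (len := 2830) h5 e3_5
  have h7 : ∀ u < 18227, (fun u => chkE tab 3 u) u = true := ext_range (a := 15565) (len := 2662) h6 e3_6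
  have h8 : ∀ u < 20011, (fun u => chkE tab 3 u) u = true := ext_range (a := 18227) (len := 1784) h7 e3_7
  exact h8

theorem hE4 : ∀ u < 20011, chkE tab 4 u = true := by
  have h0 : ∀ u < 0, (fun u => chkE tab 4 u) u = true := range_zero
  have h1 : ∀ u < 2216, (fun u => chkE tab 4 u) u = true := ext_range (a := 0) (len := 2216) h0 e4_0
  have h2 : ∀ u < 4459, (fun u => chkE tab 4 u) u = true := ext_range (a := 2216) (len := 2243) h1 e4_1
  have h3 : ∀ u < 6816, (fun u => chkE tab 4 u) u = true := ext_range (a := 4459) (len := 2357) h2 e4_2
  have h4 : ∀ u < 10273, (fun u => chkE tab 4 u) u = true := ext_range (a := 6816) (len := 3457) h3 e4_3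
  have h5 : ∀ u < 12565, (fun u => chkE tab 4 u) u = true := ext_range (a := 10273) (len := 2292) h4 e4_4
  have h6 : ∀ u < 15080, (fun u => chkE tab 4 u) u = true := ext_range (a := 12565) (len := 2515) h5 e4_5
  have h7 : ∀ u < 18271, (fun u => chkE tab 4 u) u = true := ext_range (a := 15080) (len := 3191) h6 e4_6
  have h8 : ∀ u < 20011, (fun u => chkE tab 4 u) u = true := ext_range (a := 18271) (len := 1740) h7 e4_7
  exact h8

theorem hE5 : ∀ u < 20011, chkE tab 5 u = true := by
  have h0 : ∀ u < 0, (fun u => chkE tab 5 u) u = true := range_zero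
  have h1 : ∀ u < 2317, (fun u => chkE tab 5 u) u = true := ext_range (a := 0) (len := 2317) h0 e5_0
  have h2 : ∀ u < 4465, (fun u => chkE tab 5 u) u = true := ext_range (a := 2317) (len := 2148) h1 e5_1
  have h3 : ∀ u < 6647, (fun u => chkE tab 5 u) u = true := ext_range (a := 4465) (len := 2182) h2 e5_2
  have h4 : ∀ u < 9951, (fun u => chkE tab 5 u) u = true := ext_range (a := 6647) (len := 3304) h3 e5_3
  have h5 : ∀ u < 12283, (fun u => chkE tab 5 u) u = true := ext_range (a := 9951) (len := 2332) h4 e5_4
  have h6 : ∀ u < 14526, (fun u => chkE tab 5 u) u = true := ext_range (a := 12283) (len := 2243) h5 e5_5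
  have h7 : ∀ u < 17227, (fun u => chkE tab 5 u) u = true := ext_range (a := 14526) (len := 2701) h6 e5_6
  have h8 : ∀ u < 20011, (fun u => chkE tab 5 u) u = true := ext_range (a := 17227) (len := 2784) h7 e5_7
  exact h8

theorem hE6 : ∀ u < 20011, chkE tab 6 u = true := by
  have h0 : ∀ u < 0, (fun u => chkE tab 6 u) u = true := range_zero
  have h1 : ∀ u < 2451, (fun u => chkE tab 6 u) u = true := ext_range (a := 0) (len := 2451) h0 e6_0
  have h2 : ∀ u < 4678, (fun u => chkE tab 6 u) u = true := ext_range (a := 2451) (len := 2227) h1 e6_1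
  have h3 : ∀ u < 6804, (fun u => chkE tab 6 u) u = true := ext_range (a := 4678) (len := 2126) h2 e6_2
  have h4 : ∀ u < 10091, (fun u => chkE tab 6 u) u = true := ext_range (a := 6804) (len := 3287) h3 e6_3
  have h5 : ∀ u < 12450, (fun u => chkE tab 6 u) u = true := ext_range (a := 10091) (len := 2359) h4 e6_4
  have h6 : ∀ u < 14956, (fun u => chkE tab 6 u) u = true := ext_range (a := 12450) (len := 2506) h5 e6_5
  have h7 : ∀ u < 17781, (fun u => chkE tab 6 u) u = true := ext_range (a := 14956) (len := 2825) h6 e6_6
  have h8 : ∀ u < 20011, (fun u => chkE tab 6 u) u = true := ext_range (a := 17781) (len := 2230) h7 e6_7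
  exact h8

theorem hE7 : ∀ u < 20011, chkE tab 7 u = true := by
  have h0 : ∀ u < 0, (fun u => chkE tab 7 u) u = true := range_zero
  have h1 : ∀ u < 2707, (fun u => chkE tab 7 u) u = true := ext_range (a := 0) (len := 2707) h0 e7_0
  have h2 : ∀ u < 5464, (fun u => chkE tab 7 u) u = true := ext_range (a := 2707) (len := 2757) h1 e7_1
  have h3 : ∀ u < 8680, (fun u => chkE tab 7 u) u = true := ext_range (a := 5464) (len := 3216) h2 e7_2
  have h4 : ∀ u < 12107, (fun u => chkE tab 7 u) u = true := ext_range (a := 8680) (len := 3427) h3 e7_3
  have h5 : ∀ u < 15306, (fun u => chkE tab 7 u) u = true := ext_range (a := 12107) (len := 3199) h4 e7_4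
  have h6 : ∀ u < 17752, (fun u => chkE tab 7 u) u = true := ext_range (a := 15306) (len := 2446) h5 e7_5
  have h7 : ∀ u < 20011, (fun u => chkE tab 7 u) u = true := ext_range (a := 17752) (len := 2259) h6 e7_6
  exact h7

theorem hE8 : ∀ u < 20011, chkE tab 8 u = true := by
  have h0 : ∀ u < 0, (fun u => chkE tab 8 u) u = true := range_zero
  have h1 : ∀ u < 2684, (fun u => chkE tab 8 u) u = true := ext_range (a := 0) (len := 2684) h0 e8_0
  have h2 : ∀ u < 6481, (fun u => chkE tab 8 u) u = true := ext_range (a := 2684) (len := 3797) h1 e8_1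
  have h3 : ∀ u < 10803, (fun u => chkE tab 8 u) u = true := ext_range (a := 6481) (len := 4322) h2 e8_2
  have h4 : ∀ u < 13863, (fun u => chkE tab 8 u) u = true := ext_range (a := 10803) (len := 3060) h3 e8_3
  have h5 : ∀ u < 16487, (fun u => chkE tab 8 u) u = true := ext_range (a := 13863) (len := 2624) h4 e8_4
  have h6 : ∀ u < 18993, (fun u => chkE tab 8 u) u = true := ext_range (a := 16487) (len := 2506) h5 e8_5
  have h7 : ∀ u < 20011, (fun u => chkE tab 8 u) u = true := ext_range (a := 18993) (len := 1018) h6 e8_6
  exact h7

theorem hL : ∀ u < 20011, chkL tab u = true := by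
  have h0 : ∀ u < 0, (fun u => chkL tab u) u = true := range_zero
  have h1 : ∀ u < 3724, (fun u => chkL tab u) u = true := ext_range (a := 0) (len := 3724) h0 l_0
  have h2 : ∀ u < 5879, (fun u => chkL tab u) u = true := ext_range (a := 3724) (len := 2155) h1 l_1
  have h3 : ∀ u < 8078, (fun u => chkL tab u) u = true := ext_range (a := 5879) (len := 2199) h2 l_2
  have h4 : ∀ u < 20011, (fun u => chkL tab u) u = true := ext_range (a := 8078) (len := 11933) h3 l_3
  exact h4

theorem hF : ∀ u < 14080, chkFin tab u = true := by
  have h0 : ∀ u < 0, (fun u => chkFin tab u) u = true := range_zero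
  have h1 : ∀ u < 276, (fun u => chkFin tab u) u = true := ext_range (a := 0) (len := 276) h0 f_0
  have h2 : ∀ u < 552, (fun u => chkFin tab u) u = true := ext_range (a := 276) (len := 276) h1 f_1
  have h3 : ∀ u < 828, (fun u => chkFin tab u) u = true := ext_range (a := 552) (len := 276) h2 f_2
  have h4 : ∀ u < 1104, (fun u => chkFin tab u) u = true := ext_range (a := 828) (len := 276) h3 f_3
  have h5 : ∀ u < 1380, (fun u => chkFin tab u) u = true := ext_range (a := 1104) (len := 276) h4 f_4
  have h6 : ∀ u < 1656, (fun u => chkFin tab u) u = true := ext_range (a := 1380) (len := 276) h5 f_5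
  have h7 : ∀ u < 1932, (fun u => chkFin tab u) u = true := ext_range (a := 1656) (len := 276) h6 f_6
  have h8 : ∀ u < 2208, (fun u => chkFin tab u) u = true := ext_range (a := 1932) (len := 276) h7 f_7
  have h9 : ∀ u < 2484, (fun u => chkFin tab u) u = true := ext_range (a := 2208) (len := 276) h8 f_8
  have h10 : ∀ u < 2760, (fun u => chkFin tab u) u = true := ext_range (a := 2484) (len := 276) h9 f_9
  have h11 : ∀ u < 3036, (fun u => chkFin tab u) u = true := ext_range (a := 2760) (len := 276) h10 f_10
  have h12 : ∀ u < 3312, (fun u => chkFin tab u) u = true := ext_range (a := 3036) (len := 276) h11 f_11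
  have h13 : ∀ u < 3588, (fun u => chkFin tab u) u = true := ext_range (a := 3312) (len := 276) h12 f_12
  have h14 : ∀ u < 3864, (fun u => chkFin tab u) u = true := ext_range (a := 3588) (len := 276) h13 f_13
  have h15 : ∀ u < 4140, (fun u => chkFin tab u) u = true := ext_range (a := 3864) (len := 276) h14 f_14
  have h16 : ∀ u < 4416, (fun u => chkFin tab u) u = true := ext_range (a := 4140) (len := 276) h15 f_15
  have h17 : ∀ u < 4692, (fun u => chkFin tab u) u = true := ext_range (a := 4416) (len := 276) h16 f_16
  have h18 : ∀ u < 4968, (fun u => chkFin tab u) u = true := ext_range (a := 4692) (len := 276) h17 f_17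
  have h19 : ∀ u < 5244, (fun u => chkFin tab u) u = true := ext_range (a := 4968) (len := 276) h18 f_18
  have h20 : ∀ u < 5520, (fun u => chkFin tab u) u = true := ext_range (a := 5244) (len := 276) h19 f_19
  have h21 : ∀ u < 5796, (fun u => chkFin tab u) u = true := ext_range (a := 5520) (len := 276) h20 f_20
  have h22 : ∀ u < 6072, (fun u => chkFin tab u) u = true := ext_range (a := 5796) (len := 276) h21 f_21
  have h23 : ∀ u < 6348, (fun u => chkFin tab u) u = true := ext_range (a := 6072) (len := 276) h22 f_22
  have h24 : ∀ u < 6624, (fun u => chkFin tab u) u = true := ext_range (a := 6348) (len := 276) h23 f_23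
  have h25 : ∀ u < 6900, (fun u => chkFin tab u) u = true := ext_range (a := 6624) (len := 276) h24 f_24
  have h26 : ∀ u < 7176, (fun u => chkFin tab u) u = true := ext_range (a := 6900) (len := 276) h25 f_25
  have h27 : ∀ u < 7452, (fun u => chkFin tab u) u = true := ext_range (a := 7176) (len := 276) h26 f_26
  have h28 : ∀ u < 7728, (fun u => chkFin tab u) u = true := ext_range (a := 7452) (len := 276) h27 f_27
  have h29 : ∀ u < 8004, (fun u => chkFin tab u) u = true := ext_range (a := 7728) (len := 276) h28 f_28
  have h30 : ∀ u < 8280, (fun u => chkFin tab u) u = true := ext_range (a := 8004) (len := 276) h29 f_29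
  have h31 : ∀ u < 8556, (fun u => chkFin tab u) u = true := ext_range (a := 8280) (len := 276) h30 f_30
  have h32 : ∀ u < 8832, (fun u => chkFin tab u) u = true := ext_range (a := 8556) (len := 276) h31 f_31
  have h33 : ∀ u < 9108, (fun u => chkFin tab u) u = true := ext_range (a := 8832) (len := 276) h32 f_32
  have h34 : ∀ u < 9384, (fun u => chkFin tab u) u = true := ext_range (a := 9108) (len := 276) h33 f_33
  have h35 : ∀ u < 9660, (fun u => chkFin tab u) u = true := ext_range (a := 9384) (len := 276) h34 f_34
  have h36 : ∀ u < 9936, (fun u => chkFin tab u) u = true := ext_range (a := 9660) (len := 276) h35 f_35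
  have h37 : ∀ u < 10212, (fun u => chkFin tab u) u = true := ext_range (a := 9936) (len := 276) h36 f_36
  have h38 : ∀ u < 10488, (fun u => chkFin tab u) u = true := ext_range (a := 10212) (len := 276) h37 f_37
  have h39 : ∀ u < 10764, (fun u => chkFin tab u) u = true := ext_range (a := 10488) (len := 276) h38 f_38
  have h40 : ∀ u < 11040, (fun u => chkFin tab u) u = true := ext_range (a := 10764) (len := 276) h39 f_39
  have h41 : ∀ u < 11316, (fun u => chkFin tab u) u = true := ext_range (a := 11040) (len := 276) h40 f_40
  have h42 : ∀ u < 11592, (fun u => chkFin tab u) u = true := ext_range (a := 11316) (len := 276) h41 f_41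
  have h43 : ∀ u < 11868, (fun u => chkFin tab u) u = true := ext_range (a := 11592) (len := 276) h42 f_42
  have h44 : ∀ u < 12144, (fun u => chkFin tab u) u = true := ext_range (a := 11868) (len := 276) h43 f_43
  have h45 : ∀ u < 12420, (fun u => chkFin tab u) u = true := ext_range (a := 12144) (len := 276) h44 f_44
  have h46 : ∀ u < 12696, (fun u => chkFin tab u) u = true := ext_range (a := 12420) (len := 276) h45 f_45
  have h47 : ∀ u < 12972, (fun u => chkFin tab u) u = true := ext_range (a := 12696) (len := 276) h46 f_46
  have h48 : ∀ u < 13248, (fun u => chkFin tab u) u = true := ext_range (a := 12972) (len := 276) h47 f_47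
  have h49 : ∀ u < 13524, (fun u => chkFin tab u) u = true := ext_range (a := 13248) (len := 276) h48 f_48
  have h50 : ∀ u < 13800, (fun u => chkFin tab u) u = true := ext_range (a := 13524) (len := 276) h49 f_49
  have h51 : ∀ u < 14076, (fun u => chkFin tab u) u = true := ext_range (a := 13800) (len := 276) h50 f_50
  have h52 : ∀ u < 14080, (fun u => chkFin tab u) u = true := ext_range (a := 14076) (len := 4) h51 f_51
  exact h52

theorem hC : ∀ u < 20011, chkCls tab u = true := by
  have h0 : ∀ u < 0, (fun u => chkCls tab u) u = true := range_zero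
  have h1 : ∀ u < 2667, (fun u => chkCls tab u) u = true := ext_range (a := 0) (len := 2667) h0 c_0
  have h2 : ∀ u < 5334, (fun u => chkCls tab u) u = true := ext_range (a := 2667) (len := 2667) h1 c_1
  have h3 : ∀ u < 8001, (fun u => chkCls tab u) u = true := ext_range (a := 5334) (len := 2667) h2 c_2
  have h4 : ∀ u < 10668, (fun u => chkCls tab u) u = true := ext_range (a := 8001) (len := 2667) h3 c_3
  have h5 : ∀ u < 13335, (fun u => chkCls tab u) u = true := ext_range (a := 10668) (len := 2667) h4 c_4
  have h6 : ∀ u < 16002, (fun u => chkCls tab u) u = true := ext_range (a := 13335) (len := 2667) h5 c_5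
  have h7 : ∀ u < 18669, (fun u => chkCls tab u) u = true := ext_range (a := 16002) (len := 2667) h6 c_6
  have h8 : ∀ u < 20011, (fun u => chkCls tab u) u = true := ext_range (a := 18669) (len := 1342) h7 c_7
  exact h8

theorem hM1 : ∀ u < 14080, chkM1 tab u = true := by
  have h0 : ∀ u < 0, (fun u => chkM1 tab u) u = true := range_zero
  have h1 : ∀ u < 708, (fun u => chkM1 tab u) u = true := ext_range (a := 0) (len := 708) h0 m1_0
  have h2 : ∀ u < 1416, (fun u => chkM1 tab u) u = true := ext_range (a := 708) (len := 708) h1 m1_1
  have h3 : ∀ u < 2124, (fun u => chkM1 tab u) u = true := ext_range (a := 1416) (len := 708) h2 m1_2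
  have h4 : ∀ u < 2832, (fun u => chkM1 tab u) u = true := ext_range (a := 2124) (len := 708) h3 m1_3
  have h5 : ∀ u < 3540, (fun u => chkM1 tab u) u = true := ext_range (a := 2832) (len := 708) h4 m1_4
  have h6 : ∀ u < 4248, (fun u => chkM1 tab u) u = true := ext_range (a := 3540) (len := 708) h5 m1_5
  have h7 : ∀ u < 4956, (fun u => chkM1 tab u) u = true := ext_range (a := 4248) (len := 708) h6 m1_6
  have h8 : ∀ u < 5664, (fun u => chkM1 tab u) u = true := ext_range (a := 4956) (len := 708) h7 m1_7
  have h9 : ∀ u < 6372, (fun u => chkM1 tab u) u = true := ext_range (a := 5664) (len := 708) h8 m1_8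
  have h10 : ∀ u < 7080, (fun u => chkM1 tab u) u = true := ext_range (a := 6372) (len := 708) h9 m1_9
  have h11 : ∀ u < 7788, (fun u => chkM1 tab u) u = true := ext_range (a := 7080) (len := 708) h10 m1_10
  have h12 : ∀ u < 8496, (fun u => chkM1 tab u) u = true := ext_range (a := 7788) (len := 708) h11 m1_11
  have h13 : ∀ u < 9204, (fun u => chkM1 tab u) u = true := ext_range (a := 8496) (len := 708) h12 m1_12
  have h14 : ∀ u < 9912, (fun u => chkM1 tab u) u = true := ext_range (a := 9204) (len := 708) h13 m1_13
  have h15 : ∀ u < 10620, (fun u => chkM1 tab u) u = true := ext_range (a := 9912) (len := 708) h14 m1_14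
  have h16 : ∀ u < 11328, (fun u => chkM1 tab u) u = true := ext_range (a := 10620) (len := 708) h15 m1_15
  have h17 : ∀ u < 12036, (fun u => chkM1 tab u) u = true := ext_range (a := 11328) (len := 708) h16 m1_16
  have h18 : ∀ u < 12744, (fun u => chkM1 tab u) u = true := ext_range (a := 12036) (len := 708) h17 m1_17
  have h19 : ∀ u < 13452, (fun u => chkM1 tab u) u = true := ext_range (a := 12744) (len := 708) h18 m1_18
  have h20 : ∀ u < 14080, (fun u => chkM1 tab u) u = true := ext_range (a := 13452) (len := 628) h19 m1_19
  exact h20

theorem hM2 : ∀ u < 14080, chkFix tab mwords u = true := by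
  have h0 : ∀ u < 0, (fun u => chkFix tab mwords u) u = true := range_zero
  have h1 : ∀ u < 36, (fun u => chkFix tab mwords u) u = true := ext_range (a := 0) (len := 36) h0 m2_0
  have h2 : ∀ u < 72, (fun u => chkFix tab mwords u) u = true := ext_range (a := 36) (len := 36) h1 m2_1
  have h3 : ∀ u < 108, (fun u => chkFix tab mwords u) u = true := ext_range (a := 72) (len := 36) h2 m2_2
  have h4 : ∀ u < 144, (fun u => chkFix tab mwords u) u = true := ext_range (a := 108) (len := 36) h3 m2_3
  have h5 : ∀ u < 180, (fun u => chkFix tab mwords u) u = true := ext_range (a := 144) (len := 36) h4 m2_4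
  have h6 : ∀ u < 216, (fun u => chkFix tab mwords u) u = true := ext_range (a := 180) (len := 36) h5 m2_5
  have h7 : ∀ u < 252, (fun u => chkFix tab mwords u) u = true := ext_range (a := 216) (len := 36) h6 m2_6
  have h8 : ∀ u < 288, (fun u => chkFix tab mwords u) u = true := ext_range (a := 252) (len := 36) h7 m2_7
  have h9 : ∀ u < 324, (fun u => chkFix tab mwords u) u = true := ext_range (a := 288) (len := 36) h8 m2_8
  have h10 : ∀ u < 360, (fun u => chkFix tab mwords u) u = true := ext_range (a := 324) (len := 36) h9 m2_9
  have h11 : ∀ u < 396, (fun u => chkFix tab mwords u) u = true := ext_range (a := 360) (len := 36) h10 m2_10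
  have h12 : ∀ u < 432, (fun u => chkFix tab mwords u) u = true := ext_range (a := 396) (len := 36) h11 m2_11
  have h13 : ∀ u < 468, (fun u => chkFix tab mwords u) u = true := ext_range (a := 432) (len := 36) h12 m2_12
  have h14 : ∀ u < 504, (fun u => chkFix tab mwords u) u = true := ext_range (a := 468) (len := 36) h13 m2_13
  have h15 : ∀ u < 540, (fun u => chkFix tab mwords u) u = true := ext_range (a := 504) (len := 36) h14 m2_14
  have h16 : ∀ u < 576, (fun u => chkFix tab mwords u) u = true := ext_range (a := 540) (len := 36) h15 m2_15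
  have h17 : ∀ u < 612, (fun u => chkFix tab mwords u) u = true := ext_range (a := 576) (len := 36) h16 m2_16
  have h18 : ∀ u < 648, (fun u => chkFix tab mwords u) u = true := ext_range (a := 612) (len := 36) h17 m2_17
  have h19 : ∀ u < 684, (fun u => chkFix tab mwords u) u = true := ext_range (a := 648) (len := 36) h18 m2_18
  have h20 : ∀ u < 720, (fun u => chkFix tab mwords u) u = true := ext_range (a := 684) (len := 36) h19 m2_19
  have h21 : ∀ u < 756, (fun u => chkFix tab mwords u) u = true := ext_range (a := 720) (len := 36) h20 m2_20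
  have h22 : ∀ u < 792, (fun u => chkFix tab mwords u) u = true := ext_range (a := 756) (len := 36) h21 m2_21
  have h23 : ∀ u < 828, (fun u => chkFix tab mwords u) u = true := ext_range (a := 792) (len := 36) h22 m2_22
  have h24 : ∀ u < 864, (fun u => chkFix tab mwords u) u = true := ext_range (a := 828) (len := 36) h23 m2_23
  have h25 : ∀ u < 900, (fun u => chkFix tab mwords u) u = true := ext_range (a := 864) (len := 36) h24 m2_24
  have h26 : ∀ u < 936, (fun u => chkFix tab mwords u) u = true := ext_range (a := 900) (len := 36) h25 m2_25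
  have h27 : ∀ u < 972, (fun u => chkFix tab mwords u) u = true := ext_range (a := 936) (len := 36) h26 m2_26
  have h28 : ∀ u < 1008, (fun u => chkFix tab mwords u) u = true := ext_range (a := 972) (len := 36) h27 m2_27
  have h29 : ∀ u < 1044, (fun u => chkFix tab mwords u) u = true := ext_range (a := 1008) (len := 36) h28 m2_28
  have h30 : ∀ u < 1080, (fun u => chkFix tab mwords u) u = true := ext_range (a := 1044) (len := 36) h29 m2_29
  have h31 : ∀ u < 1116, (fun u => chkFix tab mwords u) u = true := ext_range (a := 1080) (len := 36) h30 m2_30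
  have h32 : ∀ u < 1152, (fun u => chkFix tab mwords u) u = true := ext_range (a := 1116) (len := 36) h31 m2_31
  have h33 : ∀ u < 1188, (fun u => chkFix tab mwords u) u = true := ext_range (a := 1152) (len := 36) h32 m2_32
  have h34 : ∀ u < 1224, (fun u => chkFix tab mwords u) u = true := ext_range (a := 1188) (len := 36) h33 m2_33
  have h35 : ∀ u < 1260, (fun u => chkFix tab mwords u) u = true := ext_range (a := 1224) (len := 36) h34 m2_34
  have h36 : ∀ u < 1296, (fun u => chkFix tab mwords u) u = true := ext_range (a := 1260) (len := 36) h35 m2_35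
  have h37 : ∀ u < 1332, (fun u => chkFix tab mwords u) u = true := ext_range (a := 1296) (len := 36) h36 m2_36
  have h38 : ∀ u < 1368, (fun u => chkFix tab mwords u) u = true := ext_range (a := 1332) (len := 36) h37 m2_37
  have h39 : ∀ u < 1404, (fun u => chkFix tab mwords u) u = true := ext_range (a := 1368) (len := 36) h38 m2_38
  have h40 : ∀ u < 1440, (fun u => chkFix tab mwords u) u = true := ext_range (a := 1404) (len := 36) h39 m2_39
  have h41 : ∀ u < 1476, (fun u => chkFix tab mwords u) u = true := ext_range (a := 1440) (len := 36) h40 m2_40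
  have h42 : ∀ u < 1512, (fun u => chkFix tab mwords u) u = true := ext_range (a := 1476) (len := 36) h41 m2_41
  have h43 : ∀ u < 1548, (fun u => chkFix tab mwords u) u = true := ext_range (a := 1512) (len := 36) h42 m2_42
  have h44 : ∀ u < 1584, (fun u => chkFix tab mwords u) u = true := ext_range (a := 1548) (len := 36) h43 m2_43
  have h45 : ∀ u < 1620, (fun u => chkFix tab mwords u) u = true := ext_range (a := 1584) (len := 36) h44 m2_44
  have h46 : ∀ u < 1656, (fun u => chkFix tab mwords u) u = true := ext_range (a := 1620) (len := 36) h45 m2_45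
  have h47 : ∀ u < 1692, (fun u => chkFix tab mwords u) u = true := ext_range (a := 1656) (len := 36) h46 m2_46
  have h48 : ∀ u < 1728, (fun u => chkFix tab mwords u) u = true := ext_range (a := 1692) (len := 36) h47 m2_47
  have h49 : ∀ u < 1764, (fun u => chkFix tab mwords u) u = true := ext_range (a := 1728) (len := 36) h48 m2_48
  have h50 : ∀ u < 1800, (fun u => chkFix tab mwords u) u = true := ext_range (a := 1764) (len := 36) h49 m2_49
  have h51 : ∀ u < 1836, (fun u => chkFix tab mwords u) u = true := ext_range (a := 1800) (len := 36) h50 m2_50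
  have h52 : ∀ u < 1872, (fun u => chkFix tab mwords u) u = true := ext_range (a := 1836) (len := 36) h51 m2_51
  have h53 : ∀ u < 1908, (fun u => chkFix tab mwords u) u = true := ext_range (a := 1872) (len := 36) h52 m2_52
  have h54 : ∀ u < 1944, (fun u => chkFix tab mwords u) u = true := ext_range (a := 1908) (len := 36) h53 m2_53
  have h55 : ∀ u < 1980, (fun u => chkFix tab mwords u) u = true := ext_range (a := 1944) (len := 36) h54 m2_54
  have h56 : ∀ u < 2016, (fun u => chkFix tab mwords u) u = true := ext_range (a := 1980) (len := 36) h55 m2_55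
  have h57 : ∀ u < 2052, (fun u => chkFix tab mwords u) u = true := ext_range (a := 2016) (len := 36) h56 m2_56
  have h58 : ∀ u < 2088, (fun u => chkFix tab mwords u) u = true := ext_range (a := 2052) (len := 36) h57 m2_57
  have h59 : ∀ u < 2124, (fun u => chkFix tab mwords u) u = true := ext_range (a := 2088) (len := 36) h58 m2_58
  have h60 : ∀ u < 2160, (fun u => chkFix tab mwords u) u = true := ext_range (a := 2124) (len := 36) h59 m2_59
  have h61 : ∀ u < 2196, (fun u => chkFix tab mwords u) u = true := ext_range (a := 2160) (len := 36) h60 m2_60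
  have h62 : ∀ u < 2232, (fun u => chkFix tab mwords u) u = true := ext_range (a := 2196) (len := 36) h61 m2_61
  have h63 : ∀ u < 2268, (fun u => chkFix tab mwords u) u = true := ext_range (a := 2232) (len := 36) h62 m2_62
  have h64 : ∀ u < 2304, (fun u => chkFix tab mwords u) u = true := ext_range (a := 2268) (len := 36) h63 m2_63
  have h65 : ∀ u < 2340, (fun u => chkFix tab mwords u) u = true := ext_range (a := 2304) (len := 36) h64 m2_64
  have h66 : ∀ u < 2376, (fun u => chkFix tab mwords u) u = true := ext_range (a := 2340) (len := 36) h65 m2_65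
  have h67 : ∀ u < 2412, (fun u => chkFix tab mwords u) u = true := ext_range (a := 2376) (len := 36) h66 m2_66
  have h68 : ∀ u < 2448, (fun u => chkFix tab mwords u) u = true := ext_range (a := 2412) (len := 36) h67 m2_67
  have h69 : ∀ u < 2484, (fun u => chkFix tab mwords u) u = true := ext_range (a := 2448) (len := 36) h68 m2_68
  have h70 : ∀ u < 2520, (fun u => chkFix tab mwords u) u = true := ext_range (a := 2484) (len := 36) h69 m2_69
  have h71 : ∀ u < 2556, (fun u => chkFix tab mwords u) u = true := ext_range (a := 2520) (len := 36) h70 m2_70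
  have h72 : ∀ u < 2592, (fun u => chkFix tab mwords u) u = true := ext_range (a := 2556) (len := 36) h71 m2_71
  have h73 : ∀ u < 2628, (fun u => chkFix tab mwords u) u = true := ext_range (a := 2592) (len := 36) h72 m2_72
  have h74 : ∀ u < 2664, (fun u => chkFix tab mwords u) u = true := ext_range (a := 2628) (len := 36) h73 m2_73
  have h75 : ∀ u < 2700, (fun u => chkFix tab mwords u) u = true := ext_range (a := 2664) (len := 36) h74 m2_74
  have h76 : ∀ u < 2736, (fun u => chkFix tab mwords u) u = true := ext_range (a := 2700) (len := 36) h75 m2_75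
  have h77 : ∀ u < 2772, (fun u => chkFix tab mwords u) u = true := ext_range (a := 2736) (len := 36) h76 m2_76
  have h78 : ∀ u < 2808, (fun u => chkFix tab mwords u) u = true := ext_range (a := 2772) (len := 36) h77 m2_77
  have h79 : ∀ u < 2844, (fun u => chkFix tab mwords u) u = true := ext_range (a := 2808) (len := 36) h78 m2_78
  have h80 : ∀ u < 2880, (fun u => chkFix tab mwords u) u = true := ext_range (a := 2844) (len := 36) h79 m2_79
  have h81 : ∀ u < 2916, (fun u => chkFix tab mwords u) u = true := ext_range (a := 2880) (len := 36) h80 m2_80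
  have h82 : ∀ u < 2952, (fun u => chkFix tab mwords u) u = true := ext_range (a := 2916) (len := 36) h81 m2_81
  have h83 : ∀ u < 2988, (fun u => chkFix tab mwords u) u = true := ext_range (a := 2952) (len := 36) h82 m2_82
  have h84 : ∀ u < 3024, (fun u => chkFix tab mwords u) u = true := ext_range (a := 2988) (len := 36) h83 m2_83
  have h85 : ∀ u < 3060, (fun u => chkFix tab mwords u) u = true := ext_range (a := 3024) (len := 36) h84 m2_84
  have h86 : ∀ u < 3096, (fun u => chkFix tab mwords u) u = true := ext_range (a := 3060) (len := 36) h85 m2_85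
  have h87 : ∀ u < 3132, (fun u => chkFix tab mwords u) u = true := ext_range (a := 3096) (len := 36) h86 m2_86
  have h88 : ∀ u < 3168, (fun u => chkFix tab mwords u) u = true := ext_range (a := 3132) (len := 36) h87 m2_87
  have h89 : ∀ u < 3204, (fun u => chkFix tab mwords u) u = true := ext_range (a := 3168) (len := 36) h88 m2_88
  have h90 : ∀ u < 3240, (fun u => chkFix tab mwords u) u = true := ext_range (a := 3204) (len := 36) h89 m2_89
  have h91 : ∀ u < 3276, (fun u => chkFix tab mwords u) u = true := ext_range (a := 3240) (len := 36) h90 m2_90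
  have h92 : ∀ u < 3312, (fun u => chkFix tab mwords u) u = true := ext_range (a := 3276) (len := 36) h91 m2_91
  have h93 : ∀ u < 3348, (fun u => chkFix tab mwords u) u = true := ext_range (a := 3312) (len := 36) h92 m2_92
  have h94 : ∀ u < 3384, (fun u => chkFix tab mwords u) u = true := ext_range (a := 3348) (len := 36) h93 m2_93
  have h95 : ∀ u < 3420, (fun u => chkFix tab mwords u) u = true := ext_range (a := 3384) (len := 36) h94 m2_94
  have h96 : ∀ u < 3456, (fun u => chkFix tab mwords u) u = true := ext_range (a := 3420) (len := 36) h95 m2_95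
  have h97 : ∀ u < 3492, (fun u => chkFix tab mwords u) u = true := ext_range (a := 3456) (len := 36) h96 m2_96
  have h98 : ∀ u < 3528, (fun u => chkFix tab mwords u) u = true := ext_range (a := 3492) (len := 36) h97 m2_97
  have h99 : ∀ u < 3564, (fun u => chkFix tab mwords u) u = true := ext_range (a := 3528) (len := 36) h98 m2_98
  have h100 : ∀ u < 3600, (fun u => chkFix tab mwords u) u = true := ext_range (a := 3564) (len := 36) h99 m2_99
  have h101 : ∀ u < 3636, (fun u => chkFix tab mwords u) u = true := ext_range (a := 3600) (len := 36) h100 m2_100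
  have h102 : ∀ u < 3672, (fun u => chkFix tab mwords u) u = true := ext_range (a := 3636) (len := 36) h101 m2_101
  have h103 : ∀ u < 3708, (fun u => chkFix tab mwords u) u = true := ext_range (a := 3672) (len := 36) h102 m2_102
  have h104 : ∀ u < 3744, (fun u => chkFix tab mwords u) u = true := ext_range (a := 3708) (len := 36) h103 m2_103
  have h105 : ∀ u < 3780, (fun u => chkFix tab mwords u) u = true := ext_range (a := 3744) (len := 36) h104 m2_104
  have h106 : ∀ u < 3816, (fun u => chkFix tab mwords u) u = true := ext_range (a := 3780) (len := 36) h105 m2_105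
  have h107 : ∀ u < 3852, (fun u => chkFix tab mwords u) u = true := ext_range (a := 3816) (len := 36) h106 m2_106
  have h108 : ∀ u < 3888, (fun u => chkFix tab mwords u) u = true := ext_range (a := 3852) (len := 36) h107 m2_107
  have h109 : ∀ u < 3924, (fun u => chkFix tab mwords u) u = true := ext_range (a := 3888) (len := 36) h108 m2_108
  have h110 : ∀ u < 3960, (fun u => chkFix tab mwords u) u = true := ext_range (a := 3924) (len := 36) h109 m2_109
  have h111 : ∀ u < 3996, (fun u => chkFix tab mwords u) u = true := ext_range (a := 3960) (len := 36) h110 m2_110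
  have h112 : ∀ u < 4032, (fun u => chkFix tab mwords u) u = true := ext_range (a := 3996) (len := 36) h111 m2_111
  have h113 : ∀ u < 4068, (fun u => chkFix tab mwords u) u = true := ext_range (a := 4032) (len := 36) h112 m2_112
  have h114 : ∀ u < 4104, (fun u => chkFix tab mwords u) u = true := ext_range (a := 4068) (len := 36) h113 m2_113
  have h115 : ∀ u < 4140, (fun u => chkFix tab mwords u) u = true := ext_range (a := 4104) (len := 36) h114 m2_114
  have h116 : ∀ u < 4176, (fun u => chkFix tab mwords u) u = true := ext_range (a := 4140) (len := 36) h115 m2_115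
  have h117 : ∀ u < 4212, (fun u => chkFix tab mwords u) u = true := ext_range (a := 4176) (len := 36) h116 m2_116
  have h118 : ∀ u < 4248, (fun u => chkFix tab mwords u) u = true := ext_range (a := 4212) (len := 36) h117 m2_117
  have h119 : ∀ u < 4284, (fun u => chkFix tab mwords u) u = true := ext_range (a := 4248) (len := 36) h118 m2_118
  have h120 : ∀ u < 4320, (fun u => chkFix tab mwords u) u = true := ext_range (a := 4284) (len := 36) h119 m2_119
  have h121 : ∀ u < 4356, (fun u => chkFix tab mwords u) u = true := ext_range (a := 4320) (len := 36) h120 m2_120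
  have h122 : ∀ u < 4392, (fun u => chkFix tab mwords u) u = true := ext_range (a := 4356) (len := 36) h121 m2_121
  have h123 : ∀ u < 4428, (fun u => chkFix tab mwords u) u = true := ext_range (a := 4392) (len := 36) h122 m2_122
  have h124 : ∀ u < 4464, (fun u => chkFix tab mwords u) u = true := ext_range (a := 4428) (len := 36) h123 m2_123
  have h125 : ∀ u < 4500, (fun u => chkFix tab mwords u) u = true := ext_range (a := 4464) (len := 36) h124 m2_124
  have h126 : ∀ u < 4536, (fun u => chkFix tab mwords u) u = true := ext_range (a := 4500) (len := 36) h125 m2_125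
  have h127 : ∀ u < 4572, (fun u => chkFix tab mwords u) u = true := ext_range (a := 4536) (len := 36) h126 m2_126
  have h128 : ∀ u < 4608, (fun u => chkFix tab mwords u) u = true := ext_range (a := 4572) (len := 36) h127 m2_127
  have h129 : ∀ u < 4644, (fun u => chkFix tab mwords u) u = true := ext_range (a := 4608) (len := 36) h128 m2_128
  have h130 : ∀ u < 4680, (fun u => chkFix tab mwords u) u = true := ext_range (a := 4644) (len := 36) h129 m2_129
  have h131 : ∀ u < 4716, (fun u => chkFix tab mwords u) u = true := ext_range (a := 4680) (len := 36) h130 m2_130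
  have h132 : ∀ u < 4752, (fun u => chkFix tab mwords u) u = true := ext_range (a := 4716) (len := 36) h131 m2_131
  have h133 : ∀ u < 4788, (fun u => chkFix tab mwords u) u = true := ext_range (a := 4752) (len := 36) h132 m2_132
  have h134 : ∀ u < 4824, (fun u => chkFix tab mwords u) u = true := ext_range (a := 4788) (len := 36) h133 m2_133
  have h135 : ∀ u < 4860, (fun u => chkFix tab mwords u) u = true := ext_range (a := 4824) (len := 36) h134 m2_134
  have h136 : ∀ u < 4896, (fun u => chkFix tab mwords u) u = true := ext_range (a := 4860) (len := 36) h135 m2_135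
  have h137 : ∀ u < 4932, (fun u => chkFix tab mwords u) u = true := ext_range (a := 4896) (len := 36) h136 m2_136
  have h138 : ∀ u < 4968, (fun u => chkFix tab mwords u) u = true := ext_range (a := 4932) (len := 36) h137 m2_137
  have h139 : ∀ u < 5004, (fun u => chkFix tab mwords u) u = true := ext_range (a := 4968) (len := 36) h138 m2_138
  have h140 : ∀ u < 5040, (fun u => chkFix tab mwords u) u = true := ext_range (a := 5004) (len := 36) h139 m2_139
  have h141 : ∀ u < 5076, (fun u => chkFix tab mwords u) u = true := ext_range (a := 5040) (len := 36) h140 m2_140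
  have h142 : ∀ u < 5112, (fun u => chkFix tab mwords u) u = true := ext_range (a := 5076) (len := 36) h141 m2_141
  have h143 : ∀ u < 5148, (fun u => chkFix tab mwords u) u = true := ext_range (a := 5112) (len := 36) h142 m2_142
  have h144 : ∀ u < 5184, (fun u => chkFix tab mwords u) u = true := ext_range (a := 5148) (len := 36) h143 m2_143
  have h145 : ∀ u < 5220, (fun u => chkFix tab mwords u) u = true := ext_range (a := 5184) (len := 36) h144 m2_144
  have h146 : ∀ u < 5256, (fun u => chkFix tab mwords u) u = true := ext_range (a := 5220) (len := 36) h145 m2_145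
  have h147 : ∀ u < 5292, (fun u => chkFix tab mwords u) u = true := ext_range (a := 5256) (len := 36) h146 m2_146
  have h148 : ∀ u < 5328, (fun u => chkFix tab mwords u) u = true := ext_range (a := 5292) (len := 36) h147 m2_147
  have h149 : ∀ u < 5364, (fun u => chkFix tab mwords u) u = true := ext_range (a := 5328) (len := 36) h148 m2_148
  have h150 : ∀ u < 5400, (fun u => chkFix tab mwords u) u = true := ext_range (a := 5364) (len := 36) h149 m2_149
  have h151 : ∀ u < 5436, (fun u => chkFix tab mwords u) u = true := ext_range (a := 5400) (len := 36) h150 m2_150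
  have h152 : ∀ u < 5472, (fun u => chkFix tab mwords u) u = true := ext_range (a := 5436) (len := 36) h151 m2_151
  have h153 : ∀ u < 5508, (fun u => chkFix tab mwords u) u = true := ext_range (a := 5472) (len := 36) h152 m2_152
  have h154 : ∀ u < 5544, (fun u => chkFix tab mwords u) u = true := ext_range (a := 5508) (len := 36) h153 m2_153
  have h155 : ∀ u < 5580, (fun u => chkFix tab mwords u) u = true := ext_range (a := 5544) (len := 36) h154 m2_154
  have h156 : ∀ u < 5616, (fun u => chkFix tab mwords u) u = true := ext_range (a := 5580) (len := 36) h155 m2_155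
  have h157 : ∀ u < 5652, (fun u => chkFix tab mwords u) u = true := ext_range (a := 5616) (len := 36) h156 m2_156
  have h158 : ∀ u < 5688, (fun u => chkFix tab mwords u) u = true := ext_range (a := 5652) (len := 36) h157 m2_157
  have h159 : ∀ u < 5724, (fun u => chkFix tab mwords u) u = true := ext_range (a := 5688) (len := 36) h158 m2_158
  have h160 : ∀ u < 5760, (fun u => chkFix tab mwords u) u = true := ext_range (a := 5724) (len := 36) h159 m2_159
  have h161 : ∀ u < 5796, (fun u => chkFix tab mwords u) u = true := ext_range (a := 5760) (len := 36) h160 m2_160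
  have h162 : ∀ u < 5832, (fun u => chkFix tab mwords u) u = true := ext_range (a := 5796) (len := 36) h161 m2_161
  have h163 : ∀ u < 5868, (fun u => chkFix tab mwords u) u = true := ext_range (a := 5832) (len := 36) h162 m2_162
  have h164 : ∀ u < 5904, (fun u => chkFix tab mwords u) u = true := ext_range (a := 5868) (len := 36) h163 m2_163
  have h165 : ∀ u < 5940, (fun u => chkFix tab mwords u) u = true := ext_range (a := 5904) (len := 36) h164 m2_164
  have h166 : ∀ u < 5976, (fun u => chkFix tab mwords u) u = true := ext_range (a := 5940) (len := 36) h165 m2_165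
  have h167 : ∀ u < 6012, (fun u => chkFix tab mwords u) u = true := ext_range (a := 5976) (len := 36) h166 m2_166
  have h168 : ∀ u < 6048, (fun u => chkFix tab mwords u) u = true := ext_range (a := 6012) (len := 36) h167 m2_167
  have h169 : ∀ u < 6084, (fun u => chkFix tab mwords u) u = true := ext_range (a := 6048) (len := 36) h168 m2_168
  have h170 : ∀ u < 6120, (fun u => chkFix tab mwords u) u = true := ext_range (a := 6084) (len := 36) h169 m2_169
  have h171 : ∀ u < 6156, (fun u => chkFix tab mwords u) u = true := ext_range (a := 6120) (len := 36) h170 m2_170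
  have h172 : ∀ u < 6192, (fun u => chkFix tab mwords u) u = true := ext_range (a := 6156) (len := 36) h171 m2_171
  have h173 : ∀ u < 6228, (fun u => chkFix tab mwords u) u = true := ext_range (a := 6192) (len := 36) h172 m2_172
  have h174 : ∀ u < 6264, (fun u => chkFix tab mwords u) u = true := ext_range (a := 6228) (len := 36) h173 m2_173
  have h175 : ∀ u < 6300, (fun u => chkFix tab mwords u) u = true := ext_range (a := 6264) (len := 36) h174 m2_174
  have h176 : ∀ u < 6336, (fun u => chkFix tab mwords u) u = true := ext_range (a := 6300) (len := 36) h175 m2_175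
  have h177 : ∀ u < 6372, (fun u => chkFix tab mwords u) u = true := ext_range (a := 6336) (len := 36) h176 m2_176
  have h178 : ∀ u < 6408, (fun u => chkFix tab mwords u) u = true := ext_range (a := 6372) (len := 36) h177 m2_177
  have h179 : ∀ u < 6444, (fun u => chkFix tab mwords u) u = true := ext_range (a := 6408) (len := 36) h178 m2_178
  have h180 : ∀ u < 6480, (fun u => chkFix tab mwords u) u = true := ext_range (a := 6444) (len := 36) h179 m2_179
  have h181 : ∀ u < 6516, (fun u => chkFix tab mwords u) u = true := ext_range (a := 6480) (len := 36) h180 m2_180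
  have h182 : ∀ u < 6552, (fun u => chkFix tab mwords u) u = true := ext_range (a := 6516) (len := 36) h181 m2_181
  have h183 : ∀ u < 6588, (fun u => chkFix tab mwords u) u = true := ext_range (a := 6552) (len := 36) h182 m2_182
  have h184 : ∀ u < 6624, (fun u => chkFix tab mwords u) u = true := ext_range (a := 6588) (len := 36) h183 m2_183
  have h185 : ∀ u < 6660, (fun u => chkFix tab mwords u) u = true := ext_range (a := 6624) (len := 36) h184 m2_184
  have h186 : ∀ u < 6696, (fun u => chkFix tab mwords u) u = true := ext_range (a := 6660) (len := 36) h185 m2_185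
  have h187 : ∀ u < 6732, (fun u => chkFix tab mwords u) u = true := ext_range (a := 6696) (len := 36) h186 m2_186
  have h188 : ∀ u < 6768, (fun u => chkFix tab mwords u) u = true := ext_range (a := 6732) (len := 36) h187 m2_187
  have h189 : ∀ u < 6804, (fun u => chkFix tab mwords u) u = true := ext_range (a := 6768) (len := 36) h188 m2_188
  have h190 : ∀ u < 6840, (fun u => chkFix tab mwords u) u = true := ext_range (a := 6804) (len := 36) h189 m2_189
  have h191 : ∀ u < 6876, (fun u => chkFix tab mwords u) u = true := ext_range (a := 6840) (len := 36) h190 m2_190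
  have h192 : ∀ u < 6912, (fun u => chkFix tab mwords u) u = true := ext_range (a := 6876) (len := 36) h191 m2_191
  have h193 : ∀ u < 6948, (fun u => chkFix tab mwords u) u = true := ext_range (a := 6912) (len := 36) h192 m2_192
  have h194 : ∀ u < 6984, (fun u => chkFix tab mwords u) u = true := ext_range (a := 6948) (len := 36) h193 m2_193
  have h195 : ∀ u < 7020, (fun u => chkFix tab mwords u) u = true := ext_range (a := 6984) (len := 36) h194 m2_194
  have h196 : ∀ u < 7056, (fun u => chkFix tab mwords u) u = true := ext_range (a := 7020) (len := 36) h195 m2_195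
  have h197 : ∀ u < 7092, (fun u => chkFix tab mwords u) u = true := ext_range (a := 7056) (len := 36) h196 m2_196
  have h198 : ∀ u < 7128, (fun u => chkFix tab mwords u) u = true := ext_range (a := 7092) (len := 36) h197 m2_197
  have h199 : ∀ u < 7164, (fun u => chkFix tab mwords u) u = true := ext_range (a := 7128) (len := 36) h198 m2_198
  have h200 : ∀ u < 7200, (fun u => chkFix tab mwords u) u = true := ext_range (a := 7164) (len := 36) h199 m2_199
  have h201 : ∀ u < 7236, (fun u => chkFix tab mwords u) u = true := ext_range (a := 7200) (len := 36) h200 m2_200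
  have h202 : ∀ u < 7272, (fun u => chkFix tab mwords u) u = true := ext_range (a := 7236) (len := 36) h201 m2_201
  have h203 : ∀ u < 7308, (fun u => chkFix tab mwords u) u = true := ext_range (a := 7272) (len := 36) h202 m2_202
  have h204 : ∀ u < 7344, (fun u => chkFix tab mwords u) u = true := ext_range (a := 7308) (len := 36) h203 m2_203
  have h205 : ∀ u < 7380, (fun u => chkFix tab mwords u) u = true := ext_range (a := 7344) (len := 36) h204 m2_204
  have h206 : ∀ u < 7416, (fun u => chkFix tab mwords u) u = true := ext_range (a := 7380) (len := 36) h205 m2_205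
  have h207 : ∀ u < 7452, (fun u => chkFix tab mwords u) u = true := ext_range (a := 7416) (len := 36) h206 m2_206
  have h208 : ∀ u < 7488, (fun u => chkFix tab mwords u) u = true := ext_range (a := 7452) (len := 36) h207 m2_207
  have h209 : ∀ u < 7524, (fun u => chkFix tab mwords u) u = true := ext_range (a := 7488) (len := 36) h208 m2_208
  have h210 : ∀ u < 7560, (fun u => chkFix tab mwords u) u = true := ext_range (a := 7524) (len := 36) h209 m2_209
  have h211 : ∀ u < 7596, (fun u => chkFix tab mwords u) u = true := ext_range (a := 7560) (len := 36) h210 m2_210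
  have h212 : ∀ u < 7632, (fun u => chkFix tab mwords u) u = true := ext_range (a := 7596) (len := 36) h211 m2_211
  have h213 : ∀ u < 7668, (fun u => chkFix tab mwords u) u = true := ext_range (a := 7632) (len := 36) h212 m2_212
  have h214 : ∀ u < 7704, (fun u => chkFix tab mwords u) u = true := ext_range (a := 7668) (len := 36) h213 m2_213
  have h215 : ∀ u < 7740, (fun u => chkFix tab mwords u) u = true := ext_range (a := 7704) (len := 36) h214 m2_214
  have h216 : ∀ u < 7776, (fun u => chkFix tab mwords u) u = true := ext_range (a := 7740) (len := 36) h215 m2_215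
  have h217 : ∀ u < 7812, (fun u => chkFix tab mwords u) u = true := ext_range (a := 7776) (len := 36) h216 m2_216
  have h218 : ∀ u < 7848, (fun u => chkFix tab mwords u) u = true := ext_range (a := 7812) (len := 36) h217 m2_217
  have h219 : ∀ u < 7884, (fun u => chkFix tab mwords u) u = true := ext_range (a := 7848) (len := 36) h218 m2_218
  have h220 : ∀ u < 7920, (fun u => chkFix tab mwords u) u = true := ext_range (a := 7884) (len := 36) h219 m2_219
  have h221 : ∀ u < 7956, (fun u => chkFix tab mwords u) u = true := ext_range (a := 7920) (len := 36) h220 m2_220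
  have h222 : ∀ u < 7992, (fun u => chkFix tab mwords u) u = true := ext_range (a := 7956) (len := 36) h221 m2_221
  have h223 : ∀ u < 8028, (fun u => chkFix tab mwords u) u = true := ext_range (a := 7992) (len := 36) h222 m2_222
  have h224 : ∀ u < 8064, (fun u => chkFix tab mwords u) u = true := ext_range (a := 8028) (len := 36) h223 m2_223
  have h225 : ∀ u < 8100, (fun u => chkFix tab mwords u) u = true := ext_range (a := 8064) (len := 36) h224 m2_224
  have h226 : ∀ u < 8136, (fun u => chkFix tab mwords u) u = true := ext_range (a := 8100) (len := 36) h225 m2_225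
  have h227 : ∀ u < 8172, (fun u => chkFix tab mwords u) u = true := ext_range (a := 8136) (len := 36) h226 m2_226
  have h228 : ∀ u < 8208, (fun u => chkFix tab mwords u) u = true := ext_range (a := 8172) (len := 36) h227 m2_227
  have h229 : ∀ u < 8244, (fun u => chkFix tab mwords u) u = true := ext_range (a := 8208) (len := 36) h228 m2_228
  have h230 : ∀ u < 8280, (fun u => chkFix tab mwords u) u = true := ext_range (a := 8244) (len := 36) h229 m2_229
  have h231 : ∀ u < 8316, (fun u => chkFix tab mwords u) u = true := ext_range (a := 8280) (len := 36) h230 m2_230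
  have h232 : ∀ u < 8352, (fun u => chkFix tab mwords u) u = true := ext_range (a := 8316) (len := 36) h231 m2_231
  have h233 : ∀ u < 8388, (fun u => chkFix tab mwords u) u = true := ext_range (a := 8352) (len := 36) h232 m2_232
  have h234 : ∀ u < 8424, (fun u => chkFix tab mwords u) u = true := ext_range (a := 8388) (len := 36) h233 m2_233
  have h235 : ∀ u < 8460, (fun u => chkFix tab mwords u) u = true := ext_range (a := 8424) (len := 36) h234 m2_234
  have h236 : ∀ u < 8496, (fun u => chkFix tab mwords u) u = true := ext_range (a := 8460) (len := 36) h235 m2_235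
  have h237 : ∀ u < 8532, (fun u => chkFix tab mwords u) u = true := ext_range (a := 8496) (len := 36) h236 m2_236
  have h238 : ∀ u < 8568, (fun u => chkFix tab mwords u) u = true := ext_range (a := 8532) (len := 36) h237 m2_237
  have h239 : ∀ u < 8604, (fun u => chkFix tab mwords u) u = true := ext_range (a := 8568) (len := 36) h238 m2_238
  have h240 : ∀ u < 8640, (fun u => chkFix tab mwords u) u = true := ext_range (a := 8604) (len := 36) h239 m2_239
  have h241 : ∀ u < 8676, (fun u => chkFix tab mwords u) u = true := ext_range (a := 8640) (len := 36) h240 m2_240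
  have h242 : ∀ u < 8712, (fun u => chkFix tab mwords u) u = true := ext_range (a := 8676) (len := 36) h241 m2_241
  have h243 : ∀ u < 8748, (fun u => chkFix tab mwords u) u = true := ext_range (a := 8712) (len := 36) h242 m2_242
  have h244 : ∀ u < 8784, (fun u => chkFix tab mwords u) u = true := ext_range (a := 8748) (len := 36) h243 m2_243
  have h245 : ∀ u < 8820, (fun u => chkFix tab mwords u) u = true := ext_range (a := 8784) (len := 36) h244 m2_244
  have h246 : ∀ u < 8856, (fun u => chkFix tab mwords u) u = true := ext_range (a := 8820) (len := 36) h245 m2_245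
  have h247 : ∀ u < 8892, (fun u => chkFix tab mwords u) u = true := ext_range (a := 8856) (len := 36) h246 m2_246
  have h248 : ∀ u < 8928, (fun u => chkFix tab mwords u) u = true := ext_range (a := 8892) (len := 36) h247 m2_247
  have h249 : ∀ u < 8964, (fun u => chkFix tab mwords u) u = true := ext_range (a := 8928) (len := 36) h248 m2_248
  have h250 : ∀ u < 9000, (fun u => chkFix tab mwords u) u = true := ext_range (a := 8964) (len := 36) h249 m2_249
  have h251 : ∀ u < 9036, (fun u => chkFix tab mwords u) u = true := ext_range (a := 9000) (len := 36) h250 m2_250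
  have h252 : ∀ u < 9072, (fun u => chkFix tab mwords u) u = true := ext_range (a := 9036) (len := 36) h251 m2_251
  have h253 : ∀ u < 9108, (fun u => chkFix tab mwords u) u = true := ext_range (a := 9072) (len := 36) h252 m2_252
  have h254 : ∀ u < 9144, (fun u => chkFix tab mwords u) u = true := ext_range (a := 9108) (len := 36) h253 m2_253
  have h255 : ∀ u < 9180, (fun u => chkFix tab mwords u) u = true := ext_range (a := 9144) (len := 36) h254 m2_254
  have h256 : ∀ u < 9216, (fun u => chkFix tab mwords u) u = true := ext_range (a := 9180) (len := 36) h255 m2_255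
  have h257 : ∀ u < 9252, (fun u => chkFix tab mwords u) u = true := ext_range (a := 9216) (len := 36) h256 m2_256
  have h258 : ∀ u < 9288, (fun u => chkFix tab mwords u) u = true := ext_range (a := 9252) (len := 36) h257 m2_257
  have h259 : ∀ u < 9324, (fun u => chkFix tab mwords u) u = true := ext_range (a := 9288) (len := 36) h258 m2_258
  have h260 : ∀ u < 9360, (fun u => chkFix tab mwords u) u = true := ext_range (a := 9324) (len := 36) h259 m2_259
  have h261 : ∀ u < 9396, (fun u => chkFix tab mwords u) u = true := ext_range (a := 9360) (len := 36) h260 m2_260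
  have h262 : ∀ u < 9432, (fun u => chkFix tab mwords u) u = true := ext_range (a := 9396) (len := 36) h261 m2_261
  have h263 : ∀ u < 9468, (fun u => chkFix tab mwords u) u = true := ext_range (a := 9432) (len := 36) h262 m2_262
  have h264 : ∀ u < 9504, (fun u => chkFix tab mwords u) u = true := ext_range (a := 9468) (len := 36) h263 m2_263
  have h265 : ∀ u < 9540, (fun u => chkFix tab mwords u) u = true := ext_range (a := 9504) (len := 36) h264 m2_264
  have h266 : ∀ u < 9576, (fun u => chkFix tab mwords u) u = true := ext_range (a := 9540) (len := 36) h265 m2_265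
  have h267 : ∀ u < 9612, (fun u => chkFix tab mwords u) u = true := ext_range (a := 9576) (len := 36) h266 m2_266
  have h268 : ∀ u < 9648, (fun u => chkFix tab mwords u) u = true := ext_range (a := 9612) (len := 36) h267 m2_267
  have h269 : ∀ u < 9684, (fun u => chkFix tab mwords u) u = true := ext_range (a := 9648) (len := 36) h268 m2_268
  have h270 : ∀ u < 9720, (fun u => chkFix tab mwords u) u = true := ext_range (a := 9684) (len := 36) h269 m2_269
  have h271 : ∀ u < 9756, (fun u => chkFix tab mwords u) u = true := ext_range (a := 9720) (len := 36) h270 m2_270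
  have h272 : ∀ u < 9792, (fun u => chkFix tab mwords u) u = true := ext_range (a := 9756) (len := 36) h271 m2_271
  have h273 : ∀ u < 9828, (fun u => chkFix tab mwords u) u = true := ext_range (a := 9792) (len := 36) h272 m2_272
  have h274 : ∀ u < 9864, (fun u => chkFix tab mwords u) u = true := ext_range (a := 9828) (len := 36) h273 m2_273
  have h275 : ∀ u < 9900, (fun u => chkFix tab mwords u) u = true := ext_range (a := 9864) (len := 36) h274 m2_274
  have h276 : ∀ u < 9936, (fun u => chkFix tab mwords u) u = true := ext_range (a := 9900) (len := 36) h275 m2_275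
  have h277 : ∀ u < 9972, (fun u => chkFix tab mwords u) u = true := ext_range (a := 9936) (len := 36) h276 m2_276
  have h278 : ∀ u < 10008, (fun u => chkFix tab mwords u) u = true := ext_range (a := 9972) (len := 36) h277 m2_277
  have h279 : ∀ u < 10044, (fun u => chkFix tab mwords u) u = true := ext_range (a := 10008) (len := 36) h278 m2_278
  have h280 : ∀ u < 10080, (fun u => chkFix tab mwords u) u = true := ext_range (a := 10044) (len := 36) h279 m2_279
  have h281 : ∀ u < 10116, (fun u => chkFix tab mwords u) u = true := ext_range (a := 10080) (len := 36) h280 m2_280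
  have h282 : ∀ u < 10152, (fun u => chkFix tab mwords u) u = true := ext_range (a := 10116) (len := 36) h281 m2_281
  have h283 : ∀ u < 10188, (fun u => chkFix tab mwords u) u = true := ext_range (a := 10152) (len := 36) h282 m2_282
  have h284 : ∀ u < 10224, (fun u => chkFix tab mwords u) u = true := ext_range (a := 10188) (len := 36) h283 m2_283
  have h285 : ∀ u < 10260, (fun u => chkFix tab mwords u) u = true := ext_range (a := 10224) (len := 36) h284 m2_284
  have h286 : ∀ u < 10296, (fun u => chkFix tab mwords u) u = true := ext_range (a := 10260) (len := 36) h285 m2_285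
  have h287 : ∀ u < 10332, (fun u => chkFix tab mwords u) u = true := ext_range (a := 10296) (len := 36) h286 m2_286
  have h288 : ∀ u < 10368, (fun u => chkFix tab mwords u) u = true := ext_range (a := 10332) (len := 36) h287 m2_287
  have h289 : ∀ u < 10404, (fun u => chkFix tab mwords u) u = true := ext_range (a := 10368) (len := 36) h288 m2_288
  have h290 : ∀ u < 10440, (fun u => chkFix tab mwords u) u = true := ext_range (a := 10404) (len := 36) h289 m2_289
  have h291 : ∀ u < 10476, (fun u => chkFix tab mwords u) u = true := ext_range (a := 10440) (len := 36) h290 m2_290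
  have h292 : ∀ u < 10512, (fun u => chkFix tab mwords u) u = true := ext_range (a := 10476) (len := 36) h291 m2_291
  have h293 : ∀ u < 10548, (fun u => chkFix tab mwords u) u = true := ext_range (a := 10512) (len := 36) h292 m2_292
  have h294 : ∀ u < 10584, (fun u => chkFix tab mwords u) u = true := ext_range (a := 10548) (len := 36) h293 m2_293
  have h295 : ∀ u < 10620, (fun u => chkFix tab mwords u) u = true := ext_range (a := 10584) (len := 36) h294 m2_294
  have h296 : ∀ u < 10656, (fun u => chkFix tab mwords u) u = true := ext_range (a := 10620) (len := 36) h295 m2_295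
  have h297 : ∀ u < 10692, (fun u => chkFix tab mwords u) u = true := ext_range (a := 10656) (len := 36) h296 m2_296
  have h298 : ∀ u < 10728, (fun u => chkFix tab mwords u) u = true := ext_range (a := 10692) (len := 36) h297 m2_297
  have h299 : ∀ u < 10764, (fun u => chkFix tab mwords u) u = true := ext_range (a := 10728) (len := 36) h298 m2_298
  have h300 : ∀ u < 10800, (fun u => chkFix tab mwords u) u = true := ext_range (a := 10764) (len := 36) h299 m2_299
  have h301 : ∀ u < 10836, (fun u => chkFix tab mwords u) u = true := ext_range (a := 10800) (len := 36) h300 m2_300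
  have h302 : ∀ u < 10872, (fun u => chkFix tab mwords u) u = true := ext_range (a := 10836) (len := 36) h301 m2_301
  have h303 : ∀ u < 10908, (fun u => chkFix tab mwords u) u = true := ext_range (a := 10872) (len := 36) h302 m2_302
  have h304 : ∀ u < 10944, (fun u => chkFix tab mwords u) u = true := ext_range (a := 10908) (len := 36) h303 m2_303
  have h305 : ∀ u < 10980, (fun u => chkFix tab mwords u) u = true := ext_range (a := 10944) (len := 36) h304 m2_304
  have h306 : ∀ u < 11016, (fun u => chkFix tab mwords u) u = true := ext_range (a := 10980) (len := 36) h305 m2_305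
  have h307 : ∀ u < 11052, (fun u => chkFix tab mwords u) u = true := ext_range (a := 11016) (len := 36) h306 m2_306
  have h308 : ∀ u < 11088, (fun u => chkFix tab mwords u) u = true := ext_range (a := 11052) (len := 36) h307 m2_307
  have h309 : ∀ u < 11124, (fun u => chkFix tab mwords u) u = true := ext_range (a := 11088) (len := 36) h308 m2_308
  have h310 : ∀ u < 11160, (fun u => chkFix tab mwords u) u = true := ext_range (a := 11124) (len := 36) h309 m2_309
  have h311 : ∀ u < 11196, (fun u => chkFix tab mwords u) u = true := ext_range (a := 11160) (len := 36) h310 m2_310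
  have h312 : ∀ u < 11232, (fun u => chkFix tab mwords u) u = true := ext_range (a := 11196) (len := 36) h311 m2_311
  have h313 : ∀ u < 11268, (fun u => chkFix tab mwords u) u = true := ext_range (a := 11232) (len := 36) h312 m2_312
  have h314 : ∀ u < 11304, (fun u => chkFix tab mwords u) u = true := ext_range (a := 11268) (len := 36) h313 m2_313
  have h315 : ∀ u < 11340, (fun u => chkFix tab mwords u) u = true := ext_range (a := 11304) (len := 36) h314 m2_314
  have h316 : ∀ u < 11376, (fun u => chkFix tab mwords u) u = true := ext_range (a := 11340) (len := 36) h315 m2_315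
  have h317 : ∀ u < 11412, (fun u => chkFix tab mwords u) u = true := ext_range (a := 11376) (len := 36) h316 m2_316
  have h318 : ∀ u < 11448, (fun u => chkFix tab mwords u) u = true := ext_range (a := 11412) (len := 36) h317 m2_317
  have h319 : ∀ u < 11484, (fun u => chkFix tab mwords u) u = true := ext_range (a := 11448) (len := 36) h318 m2_318
  have h320 : ∀ u < 11520, (fun u => chkFix tab mwords u) u = true := ext_range (a := 11484) (len := 36) h319 m2_319
  have h321 : ∀ u < 11556, (fun u => chkFix tab mwords u) u = true := ext_range (a := 11520) (len := 36) h320 m2_320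
  have h322 : ∀ u < 11592, (fun u => chkFix tab mwords u) u = true := ext_range (a := 11556) (len := 36) h321 m2_321
  have h323 : ∀ u < 11628, (fun u => chkFix tab mwords u) u = true := ext_range (a := 11592) (len := 36) h322 m2_322
  have h324 : ∀ u < 11664, (fun u => chkFix tab mwords u) u = true := ext_range (a := 11628) (len := 36) h323 m2_323
  have h325 : ∀ u < 11700, (fun u => chkFix tab mwords u) u = true := ext_range (a := 11664) (len := 36) h324 m2_324
  have h326 : ∀ u < 11736, (fun u => chkFix tab mwords u) u = true := ext_range (a := 11700) (len := 36) h325 m2_325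
  have h327 : ∀ u < 11772, (fun u => chkFix tab mwords u) u = true := ext_range (a := 11736) (len := 36) h326 m2_326
  have h328 : ∀ u < 11808, (fun u => chkFix tab mwords u) u = true := ext_range (a := 11772) (len := 36) h327 m2_327
  have h329 : ∀ u < 11844, (fun u => chkFix tab mwords u) u = true := ext_range (a := 11808) (len := 36) h328 m2_328
  have h330 : ∀ u < 11880, (fun u => chkFix tab mwords u) u = true := ext_range (a := 11844) (len := 36) h329 m2_329
  have h331 : ∀ u < 11916, (fun u => chkFix tab mwords u) u = true := ext_range (a := 11880) (len := 36) h330 m2_330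
  have h332 : ∀ u < 11952, (fun u => chkFix tab mwords u) u = true := ext_range (a := 11916) (len := 36) h331 m2_331
  have h333 : ∀ u < 11988, (fun u => chkFix tab mwords u) u = true := ext_range (a := 11952) (len := 36) h332 m2_332
  have h334 : ∀ u < 12024, (fun u => chkFix tab mwords u) u = true := ext_range (a := 11988) (len := 36) h333 m2_333
  have h335 : ∀ u < 12060, (fun u => chkFix tab mwords u) u = true := ext_range (a := 12024) (len := 36) h334 m2_334
  have h336 : ∀ u < 12096, (fun u => chkFix tab mwords u) u = true := ext_range (a := 12060) (len := 36) h335 m2_335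
  have h337 : ∀ u < 12132, (fun u => chkFix tab mwords u) u = true := ext_range (a := 12096) (len := 36) h336 m2_336
  have h338 : ∀ u < 12168, (fun u => chkFix tab mwords u) u = true := ext_range (a := 12132) (len := 36) h337 m2_337
  have h339 : ∀ u < 12204, (fun u => chkFix tab mwords u) u = true := ext_range (a := 12168) (len := 36) h338 m2_338
  have h340 : ∀ u < 12240, (fun u => chkFix tab mwords u) u = true := ext_range (a := 12204) (len := 36) h339 m2_339
  have h341 : ∀ u < 12276, (fun u => chkFix tab mwords u) u = true := ext_range (a := 12240) (len := 36) h340 m2_340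
  have h342 : ∀ u < 12312, (fun u => chkFix tab mwords u) u = true := ext_range (a := 12276) (len := 36) h341 m2_341
  have h343 : ∀ u < 12348, (fun u => chkFix tab mwords u) u = true := ext_range (a := 12312) (len := 36) h342 m2_342
  have h344 : ∀ u < 12384, (fun u => chkFix tab mwords u) u = true := ext_range (a := 12348) (len := 36) h343 m2_343
  have h345 : ∀ u < 12420, (fun u => chkFix tab mwords u) u = true := ext_range (a := 12384) (len := 36) h344 m2_344
  have h346 : ∀ u < 12456, (fun u => chkFix tab mwords u) u = true := ext_range (a := 12420) (len := 36) h345 m2_345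
  have h347 : ∀ u < 12492, (fun u => chkFix tab mwords u) u = true := ext_range (a := 12456) (len := 36) h346 m2_346
  have h348 : ∀ u < 12528, (fun u => chkFix tab mwords u) u = true := ext_range (a := 12492) (len := 36) h347 m2_347
  have h349 : ∀ u < 12564, (fun u => chkFix tab mwords u) u = true := ext_range (a := 12528) (len := 36) h348 m2_348
  have h350 : ∀ u < 12600, (fun u => chkFix tab mwords u) u = true := ext_range (a := 12564) (len := 36) h349 m2_349
  have h351 : ∀ u < 12636, (fun u => chkFix tab mwords u) u = true := ext_range (a := 12600) (len := 36) h350 m2_350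
  have h352 : ∀ u < 12672, (fun u => chkFix tab mwords u) u = true := ext_range (a := 12636) (len := 36) h351 m2_351
  have h353 : ∀ u < 12708, (fun u => chkFix tab mwords u) u = true := ext_range (a := 12672) (len := 36) h352 m2_352
  have h354 : ∀ u < 12744, (fun u => chkFix tab mwords u) u = true := ext_range (a := 12708) (len := 36) h353 m2_353
  have h355 : ∀ u < 12780, (fun u => chkFix tab mwords u) u = true := ext_range (a := 12744) (len := 36) h354 m2_354
  have h356 : ∀ u < 12816, (fun u => chkFix tab mwords u) u = true := ext_range (a := 12780) (len := 36) h355 m2_355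
  have h357 : ∀ u < 12852, (fun u => chkFix tab mwords u) u = true := ext_range (a := 12816) (len := 36) h356 m2_356
  have h358 : ∀ u < 12888, (fun u => chkFix tab mwords u) u = true := ext_range (a := 12852) (len := 36) h357 m2_357
  have h359 : ∀ u < 12924, (fun u => chkFix tab mwords u) u = true := ext_range (a := 12888) (len := 36) h358 m2_358
  have h360 : ∀ u < 12960, (fun u => chkFix tab mwords u) u = true := ext_range (a := 12924) (len := 36) h359 m2_359
  have h361 : ∀ u < 12996, (fun u => chkFix tab mwords u) u = true := ext_range (a := 12960) (len := 36) h360 m2_360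
  have h362 : ∀ u < 13032, (fun u => chkFix tab mwords u) u = true := ext_range (a := 12996) (len := 36) h361 m2_361
  have h363 : ∀ u < 13068, (fun u => chkFix tab mwords u) u = true := ext_range (a := 13032) (len := 36) h362 m2_362
  have h364 : ∀ u < 13104, (fun u => chkFix tab mwords u) u = true := ext_range (a := 13068) (len := 36) h363 m2_363
  have h365 : ∀ u < 13140, (fun u => chkFix tab mwords u) u = true := ext_range (a := 13104) (len := 36) h364 m2_364
  have h366 : ∀ u < 13176, (fun u => chkFix tab mwords u) u = true := ext_range (a := 13140) (len := 36) h365 m2_365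
  have h367 : ∀ u < 13212, (fun u => chkFix tab mwords u) u = true := ext_range (a := 13176) (len := 36) h366 m2_366
  have h368 : ∀ u < 13248, (fun u => chkFix tab mwords u) u = true := ext_range (a := 13212) (len := 36) h367 m2_367
  have h369 : ∀ u < 13284, (fun u => chkFix tab mwords u) u = true := ext_range (a := 13248) (len := 36) h368 m2_368
  have h370 : ∀ u < 13320, (fun u => chkFix tab mwords u) u = true := ext_range (a := 13284) (len := 36) h369 m2_369
  have h371 : ∀ u < 13356, (fun u => chkFix tab mwords u) u = true := ext_range (a := 13320) (len := 36) h370 m2_370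
  have h372 : ∀ u < 13392, (fun u => chkFix tab mwords u) u = true := ext_range (a := 13356) (len := 36) h371 m2_371
  have h373 : ∀ u < 13428, (fun u => chkFix tab mwords u) u = true := ext_range (a := 13392) (len := 36) h372 m2_372
  have h374 : ∀ u < 13464, (fun u => chkFix tab mwords u) u = true := ext_range (a := 13428) (len := 36) h373 m2_373
  have h375 : ∀ u < 13500, (fun u => chkFix tab mwords u) u = true := ext_range (a := 13464) (len := 36) h374 m2_374
  have h376 : ∀ u < 13536, (fun u => chkFix tab mwords u) u = true := ext_range (a := 13500) (len := 36) h375 m2_375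
  have h377 : ∀ u < 13572, (fun u => chkFix tab mwords u) u = true := ext_range (a := 13536) (len := 36) h376 m2_376
  have h378 : ∀ u < 13608, (fun u => chkFix tab mwords u) u = true := ext_range (a := 13572) (len := 36) h377 m2_377
  have h379 : ∀ u < 13644, (fun u => chkFix tab mwords u) u = true := ext_range (a := 13608) (len := 36) h378 m2_378
  have h380 : ∀ u < 13680, (fun u => chkFix tab mwords u) u = true := ext_range (a := 13644) (len := 36) h379 m2_379
  have h381 : ∀ u < 13716, (fun u => chkFix tab mwords u) u = true := ext_range (a := 13680) (len := 36) h380 m2_380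
  have h382 : ∀ u < 13752, (fun u => chkFix tab mwords u) u = true := ext_range (a := 13716) (len := 36) h381 m2_381
  have h383 : ∀ u < 13788, (fun u => chkFix tab mwords u) u = true := ext_range (a := 13752) (len := 36) h382 m2_382
  have h384 : ∀ u < 13824, (fun u => chkFix tab mwords u) u = true := ext_range (a := 13788) (len := 36) h383 m2_383
  have h385 : ∀ u < 13860, (fun u => chkFix tab mwords u) u = true := ext_range (a := 13824) (len := 36) h384 m2_384
  have h386 : ∀ u < 13896, (fun u => chkFix tab mwords u) u = true := ext_range (a := 13860) (len := 36) h385 m2_385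
  have h387 : ∀ u < 13932, (fun u => chkFix tab mwords u) u = true := ext_range (a := 13896) (len := 36) h386 m2_386
  have h388 : ∀ u < 13968, (fun u => chkFix tab mwords u) u = true := ext_range (a := 13932) (len := 36) h387 m2_387
  have h389 : ∀ u < 14004, (fun u => chkFix tab mwords u) u = true := ext_range (a := 13968) (len := 36) h388 m2_388
  have h390 : ∀ u < 14040, (fun u => chkFix tab mwords u) u = true := ext_range (a := 14004) (len := 36) h389 m2_389
  have h391 : ∀ u < 14076, (fun u => chkFix tab mwords u) u = true := ext_range (a := 14040) (len := 36) h390 m2_390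
  have h392 : ∀ u < 14080, (fun u => chkFix tab mwords u) u = true := ext_range (a := 14076) (len := 4) h391 m2_391
  exact h392

theorem hE : ∀ c < 9, ∀ u < 20011, chkE tab c u = true := by
  intro c hc
  interval_cases c
  · exact hE0
  · exact hE1
  · exact hE2
  · exact hE3
  · exact hE4
  · exact hE5
  · exact hE6
  · exact hE7
  · exact hE8

end Cfsg.Agent.Helper9.TCData.X1685
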