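import Cfsg.Agent.Lib.Helper9.TCData.X1685.Main

set_option autoImplicit false
set_option maxRecDepth 1000000

namespace Cfsg.Agent.Helper9.TCData.X1685
open Cfsg.Agent.Helper9.TC2

theorem m2_108 : allRange 3888 36 (fun u => chkFix tab mwords u) = true := by decide +kernel

theorem m2_109 : allRange 3924 36 (fun u => chkFix tab mwords u) = true := by decide +kernel

theorem m2_110 : allRange 3960 36 (fun u => chkFix tab mwords u) = true := by decide +kernel

theorem m2_111 : allRange 3996 36 (fun u => chkFix tab mwords u) = true := by decide +kernel

theorem m2_112 : allRange 4032 36 (fun u => chkFix tab mwords u) = true := by decide +kernel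

theorem m2_113 : allRange 4068 36 (fun u => chkFix tab mwords u) = true := by decide +kernel

theorem m2_114 : allRange 4104 36 (fun u => chkFix tab mwords u) = true := by decide +kernel

theorem m2_115 : allRange 4140 36 (fun u => chkFix tab mwords u) = true := by decide +kernel


end Cfsg.Agent.Helper9.TCData.X1685
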